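import Cfsg.Agent.EqLemmas
import Cfsg.Agent.Lib.MinRep.Eigen
import Cfsg.Agent.Lib.ChevBN.Facts
import Cfsg.Agent.Lib.ChevBN.Instance
import Cfsg.Agent.Lib.G2Invol.Tables
import Cfsg.Agent.Lib.ChevSt.ConjMat

/-!
# Representations of G₂(q): joint eigenspaces of root subgroups

* `X`, `Tor`, `Nr` : root elements, toral elements, reflection elements of `chevG2.group F`.
* `J ρ L` : vectors with eigencharacter `ψ (c ·)` under `X r` for each `(r, c)` of `L`.
* `moveX`, `torus_mem`, `refl_mem` : how these elements move joint eigenspaces.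
* `finrank_split` : decomposition along a root subgroup; `line_fix`.
-/

set_option autoImplicit false
set_option linter.unusedSectionVars false

namespace Cfsg.Agent.G2MinDeg

open Module Cfsg.Lie Cfsg.Lie.ChevalleyDatum Cfsg.Agent.Chev Cfsg.Agent.ChevBN Cfsg.Agent.MinRep
  Cfsg.Agent.G2Invol Cfsg.Agent.ChevSt

abbrev GG (F : Type*) [Field F] : Type _ := ↥(chevG2.group F)

variable {F : Type*} [Field F]

theorem lt12 {r : ℕ} (hr : r < 12) : r < chevG2.nroots := by rwa [nroots_G2]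

/-- A root element. -/
def X (r : ℕ) (t : F) : GG F := ⟨xg goodG F r t, xg_mem_group goodG r t⟩

/-- A reflection element. -/
def Nr (r : ℕ) (a : F) : GG F := X r a * X (chevG2.neg r) (-a⁻¹) * X r a

/-- A toral element. -/
def Tor (r : ℕ) (t : F) : GG F := Nr r t * Nr r (-1)

theorem coe_X (r : ℕ) (t : F) : ((X r t : GG F) : GL chevG2.Idx F) = xg goodG F r t := rfl

theorem X_add {r : ℕ} (hr : r < 12) (s t : F) : X r (s + t) = X r s * X r t :=
  Subtype.ext (xg_add goodG (lt12 hr) s t).symm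

theorem X_zero (r : ℕ) : X r (0 : F) = 1 := Subtype.ext (xg_zero goodG r)

theorem X_inv (r : ℕ) (t : F) : (X r t)⁻¹ = X r (-t) := Subtype.ext (xg_inv goodG r t)

theorem Tor_conj {r s : ℕ} (hr : r < 12) {t : F} (ht : t ≠ 0) (u : F) :
    Tor r t * X s u = X s (t ^ chevG2.pairing r s * u) * Tor r t :=
  Subtype.ext (hg_conj goodG (lt12 hr) ht u)

/-- Chevalley's commutator formula in the group. -/
theorem X_comm {r s : ℕ} (hr : r < 12) (hs : s < 12) (h₁ : s ≠ r) (h₂ : s ≠ chevG2.neg r) (t u : F) :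
    X s u * X r t = X r t * X s u *
      ((chevG2.commWord F r s t u).map fun p => X p.1 p.2).prod := by
  apply Subtype.ext
  apply Units.ext
  rw [Subgroup.coe_mul, Subgroup.coe_mul, Subgroup.coe_mul, Subgroup.val_list_prod, List.map_map]
  rw [Units.val_mul, Units.val_mul, Units.val_mul, coe_X, coe_X, coe_xg, coe_xg,
    goodG.commutator (lt12 hr) (lt12 hs) h₁ h₂, ← Units.coeHom_apply (List.prod _), map_list_prod,
    List.map_map]
  rfl

theorem Nr_conj {r s : ℕ} (hr : r < 12) (hs : s < 12) {a : F} (ha : a ≠ 0) :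
    ∃ η : F, η ≠ 0 ∧ ∀ u, Nr r a * X s u = X (Chev.refl chevG2 r s) (η * u) * Nr r a := by
  refine ⟨a ^ (-chevG2.pairing r s) * (nSign chevG2 r s : F), ?_, fun u => ?_⟩
  · refine mul_ne_zero (zpow_ne_zero _ ha) ?_
    rcases (nSign_cases goodG (lt12 hr) (lt12 hs)).1 with h | h <;> rw [h] <;> simp
  · apply Subtype.ext
    apply Units.ext
    show ((ng goodG F r a * xg goodG F s u : GL chevG2.Idx F) : Matrix chevG2.Idx chevG2.Idx F) =
      ((xg goodG F _ _ * ng goodG F r a : GL chevG2.Idx F) : Matrix chevG2.Idx chevG2.Idx F)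
    rw [Units.val_mul, Units.val_mul, coe_ng, coe_xg, coe_xg,
      nMat_conj goodG (lt12 hr) (lt12 hs) ha]
    congr 2
    ring

theorem Nr_inv (r : ℕ) (a : F) : (Nr r a)⁻¹ = Nr r (-a) := Subtype.ext (ng_inv goodG r a)

section Rep

variable [Fintype F] {V : Type*} [AddCommGroup V] [Module ℂ V] (ρ : Representation ℂ (GG F) V)

/-- A joint eigenspace. -/
def J : List (ℕ × F) → Submodule ℂ V
  | [] => ⊤
  | p :: L => Ev ρ (X p.1) p.2 ⊓ J L

variable {ρ}

theorem mem_J : ∀ {L : List (ℕ × F)} {v : V}, v ∈ J ρ L ↔ ∀ p ∈ L, v ∈ Ev ρ (X p.1) p.2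
  | [], v => by simp [J]
  | p :: L, v => by simp [J, mem_J (L := L)]

theorem J_perm {L L' : List (ℕ × F)} (h : L.Perm L') : J ρ L = J ρ L' := by
  ext v
  simp only [mem_J, h.mem_iff]

theorem prod_act : ∀ (w : List (ℕ × F)) (χ : ℕ → F) (v : V),
    (∀ p ∈ w, p.2 = 0 ∨ v ∈ Ev ρ (X p.1) (χ p.1)) →
      ρ (w.map fun p => X p.1 p.2).prod v = psi F ((w.map fun p => χ p.1 * p.2).sum) • v
  | [], χ, v, _ => by simp
  | p :: w, χ, v, h => by
    have ih := prod_act w χ v fun q hq => h q (List.mem_cons_of_mem _ hq)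
    have hp : ρ (X p.1 p.2) v = psi F (χ p.1 * p.2) • v := by
      rcases h p List.mem_cons_self with h0 | h0
      · simp [h0, X_zero]
      · exact h0 p.2
    simp only [List.map_cons, List.prod_cons, List.sum_cons]
    rw [rmul, ih, map_smul, hp, smul_smul, AddChar.map_add_eq_mul, mul_comm]

/-- The phase picked up by moving `X r t` past `X s u`. -/
def phase (χ : ℕ → F) (r s : ℕ) (t u : F) : F :=
  ((chevG2.commTerms r s).map fun k => χ k.1 * ((k.2.1 : F) * (-t) ^ k.2.2.1 * u ^ k.2.2.2)).sum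

theorem X_past {r s : ℕ} (hr : r < 12) (hs : s < 12) (h₁ : s ≠ r) (h₂ : s ≠ chevG2.neg r) (χ : ℕ → F)
    (t u : F) {v : V} (hk : ∀ k ∈ chevG2.commTerms r s, (k.2.1 : F) = 0 ∨ v ∈ Ev ρ (X k.1) (χ k.1)) :
    ρ (X s u) (ρ (X r t) v) = psi F (phase χ r s t u) • ρ (X r t) (ρ (X s u) v) := by
  rw [← rmul, X_comm hr hs h₁ h₂ t u, rmul, rmul]
  rw [prod_act _ χ v, map_smul, map_smul]
  · congr 2
    simp [phase, ChevalleyDatum.commWord, List.map_map, Function.comp_def]
  · intro p hp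
    simp only [ChevalleyDatum.commWord, List.mem_map] at hp
    obtain ⟨k, hk', rfl⟩ := hp
    rcases hk k hk' with h | h
    · left; simp [h]
    · exact Or.inr h

/-- The root element `X r t` moves eigenvectors of `X s`. -/
theorem moveX {r s : ℕ} (hr : r < 12) (hs : s < 12) (h₁ : s ≠ r) (h₂ : s ≠ chevG2.neg r) (χ : ℕ → F)
    {t c c' : F} {v : V} (hv : v ∈ Ev ρ (X s) c)
    (hk : ∀ k ∈ chevG2.commTerms r s, (k.2.1 : F) = 0 ∨ v ∈ Ev ρ (X k.1) (χ k.1))
    (hsum : ∀ u, c * u + phase χ r s t u = c' * u) : ρ (X r t) v ∈ Ev ρ (X s) c' := fun u => by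
  rw [X_past hr hs h₁ h₂ χ t u hk, hv u, map_smul, smul_smul, ← AddChar.map_add_eq_mul, add_comm, hsum]

theorem moveX_nil {r s : ℕ} (hr : r < 12) (hs : s < 12) (h₁ : s ≠ r) (h₂ : s ≠ chevG2.neg r)
    (h : chevG2.commTerms r s = []) {t c : F} {v : V} (hv : v ∈ Ev ρ (X s) c) :
    ρ (X r t) v ∈ Ev ρ (X s) c :=
  moveX hr hs h₁ h₂ (fun _ => 0) hv (by simp [h]) (by simp [phase, h])

theorem moveX_self {r : ℕ} (hr : r < 12) {t c : F} {v : V} (hv : v ∈ Ev ρ (X r) c) :
    ρ (X r t) v ∈ Ev ρ (X r) c := fun u => by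
  rw [← rmul, ← X_add hr, add_comm, X_add hr, rmul, hv u, map_smul]

theorem torus_mem {r s : ℕ} (hr : r < 12) {t c : F} (ht : t ≠ 0) {v : V} (hv : v ∈ Ev ρ (X s) c) :
    ρ (Tor r t) v ∈ Ev ρ (X s) (c / t ^ chevG2.pairing r s) :=
  Ev_comm ρ (zpow_ne_zero _ ht) (fun u => Tor_conj hr ht u) hv

theorem refl_mem {r s : ℕ} (hr : r < 12) (hs : s < 12) {a : F} (ha : a ≠ 0) :
    ∃ η : F, η ≠ 0 ∧ ∀ {c : F} {v : V}, v ∈ Ev ρ (X s) c →
      ρ (Nr r a) v ∈ Ev ρ (X (Chev.refl chevG2 r s)) (c / η) := by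
  obtain ⟨η, hη, h⟩ := Nr_conj hr hs ha
  exact ⟨η, hη, fun hv => Ev_comm ρ hη h hv⟩

theorem refl_mem_zero {r s s' : ℕ} (hr : r < 12) (hs : s < 12) (e : Chev.refl chevG2 r s = s') {a : F}
    (ha : a ≠ 0) {v : V} (hv : v ∈ Ev ρ (X s) 0) : ρ (Nr r a) v ∈ Ev ρ (X s') 0 := by
  subst e
  obtain ⟨η, -, h⟩ := refl_mem (ρ := ρ) hr hs ha
  simpa using h hv

section Finite

variable [FiniteDimensional ℂ V]

theorem finrank_le_of_maps {W W' : Submodule ℂ V} (g : GG F) (h : ∀ v ∈ W, ρ g v ∈ W') :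
    finrank ℂ W ≤ finrank ℂ W' :=
  LinearMap.finrank_le_finrank_of_injective
    (f := ((ρ g).comp W.subtype).codRestrict W' fun v => h v v.2)
    fun _ _ e => Subtype.ext (rinj ρ g (congrArg Subtype.val e))

theorem finrank_eq_of_maps {W W' : Submodule ℂ V} (g g' : GG F) (h : ∀ v ∈ W, ρ g v ∈ W')
    (h' : ∀ v ∈ W', ρ g' v ∈ W) : finrank ℂ W = finrank ℂ W' :=
  le_antisymm (finrank_le_of_maps g h) (finrank_le_of_maps g' h')

theorem exists_mem_of_pos {W : Submodule ℂ V} (h : 0 < finrank ℂ W) : ∃ v ∈ W, v ≠ 0 :=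
  Submodule.exists_mem_ne_zero_of_ne_bot fun e => by subst e; simp at h

theorem finrank_pos_of_mem {W : Submodule ℂ V} {v : V} (hv : v ∈ W) (h0 : v ≠ 0) : 0 < finrank ℂ W := by
  rw [Nat.pos_iff_ne_zero, Ne, Submodule.finrank_eq_zero]
  exact fun e => h0 (by simpa [e] using hv)

/-- Decomposition of a stable subspace along a root subgroup. -/
theorem finrank_split {r : ℕ} (hr : r < 12) (W : Submodule ℂ V) (hW : ∀ t, ∀ v ∈ W, ρ (X r t) v ∈ W) :
    finrank ℂ W = ∑ c : F, finrank ℂ ↥(W ⊓ Ev ρ (X r) c) := by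
  classical
  have hx : ∀ s t, X r (s + t) = X r s * X (F := F) r t := X_add hr
  refine le_antisymm ?_ (sum_finrank_le ρ hx W _ fun c => le_rfl)
  rw [← Module.finrank_pi_fintype]
  refine LinearMap.finrank_le_finrank_of_injective
    (f := LinearMap.pi fun c => ((Pr ρ (X r) c).comp W.subtype).codRestrict (W ⊓ Ev ρ (X r) c)
      fun v => ⟨Pr_mapsTo ρ hW v.2, Pr_mem ρ hx c _⟩) ?_
  refine (injective_iff_map_eq_zero _).2 fun v hv => Subtype.ext ?_
  rw [← sum_Pr ρ hx (v : V)]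
  exact Finset.sum_eq_zero fun c _ => congrArg Subtype.val (congrFun hv c)

theorem split_J {r : ℕ} (hr : r < 12) (L : List (ℕ × F))
    (hW : ∀ t, ∀ v ∈ J ρ L, ρ (X r t) v ∈ J ρ L) :
    finrank ℂ (J ρ L) = ∑ c : F, finrank ℂ (J ρ ((r, c) :: L)) := by
  rw [finrank_split hr _ hW]
  refine Finset.sum_congr rfl fun c _ => ?_
  rw [J, inf_comm]

/-- An element of a line fixed by a root subgroup, by scaling with an element normalising it. -/
theorem line_fix {r : ℕ} (hr : r < 12) {W : Submodule ℂ V} (hW : finrank ℂ W ≤ 1)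
    (hX : ∀ t, ∀ v ∈ W, ρ (X r t) v ∈ W) (g : GG F) (hg : ∀ v ∈ W, ρ g v ∈ W) {a : F} (ha : a ≠ 1)
    (hga : ∀ t, g * X r t = X r (a * t) * g) {v : V} (hv : v ∈ W) : v ∈ Ev ρ (X r) 0 := by
  rw [mem_Ev_zero]
  rcases eq_or_ne v 0 with rfl | hv0
  · simp
  have hscal : ∀ u ∈ W, ∃ l : ℂ, l • v = u := by
    intro u hu
    obtain ⟨l, hl⟩ := (finrank_le_one_iff.1 hW).choose_spec ⟨v, hv⟩
    obtain ⟨l', hl'⟩ := (finrank_le_one_iff.1 hW).choose_spec ⟨u, hu⟩
    have hl0 : l ≠ 0 := fun e => hv0 (by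
      have := congrArg Subtype.val hl
      simpa [e] using this.symm)
    exact ⟨l' / l, by
      have e1 := congrArg Subtype.val hl
      have e2 := congrArg Subtype.val hl'
      simp only [Submodule.coe_smul] at e1 e2
      rw [← e1, ← e2, smul_smul, div_mul_cancel₀ _ hl0]⟩
  choose l hl using fun t => hscal _ (hX t v hv)
  obtain ⟨m, hm⟩ := hscal _ (hg v hv)
  have hm0 : m ≠ 0 := fun e => hv0 (rinj ρ g (by rw [← hm, e, zero_smul, map_zero]))
  have hla : ∀ t, l t = l (a * t) := by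
    intro t
    have h := congrArg (fun k => ρ k v) (hga t)
    simp only [rmul] at h
    rw [← hl t, map_smul, ← hm, map_smul, ← hl (a * t), smul_smul, smul_smul] at h
    exact mul_left_cancel₀ hm0 (by rw [mul_comm m, smul_left_injective ℂ hv0 h, mul_comm])
  intro t
  set s := t / (a - 1) with hs
  have e : a * s = t + s := by rw [hs]; field_simp [sub_ne_zero.2 ha]; ring
  have hl0 : l s ≠ 0 := fun h0 => hv0 (rinj ρ (X r s) (by rw [← hl s, h0, zero_smul, map_zero]))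
  have h := hla s
  rw [e] at h
  have hts : ρ (X r (t + s)) v = (l s * l t) • v := by
    rw [X_add hr, rmul, ← hl s, map_smul, ← hl t, smul_smul]
  rw [← hl (t + s)] at hts
  have h1 : l t = 1 := by
    have := smul_left_injective ℂ hv0 hts
    rw [← h] at this
    exact mul_left_cancel₀ hl0 (by rw [← this, mul_one])
  rw [← hl t, h1, one_smul]

end Finite

end Rep

end Cfsg.Agent.G2MinDeg
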