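import Cfsg.Agent.Lib.G2MinDeg.Ne3
import Cfsg.Agent.Lib.G2Oct.Exist

/-!
# Subspaces stable under the long root `SL₃` of G₂(q)

* `tv`, `sigma`, `Stab`; `stab_X`, `stab_Nr`.
* `split_W`, `stab_dims`: multiplicities in a stable subspace; `not_all_fixed`.
-/

set_option autoImplicit false
set_option linter.unusedSectionVars false

namespace Cfsg.Agent.G2MinDeg

open Module Cfsg.Lie Cfsg.Lie.ChevalleyDatum Cfsg.Agent.Chev Cfsg.Agent.ChevBN Cfsg.Agent.MinRep
open scoped MatrixGroups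

variable {F : Type*} [Field F]

/-- A transvection in `SL₃`. -/
def tv {i j : Fin 3} (h : i ≠ j) (t : F) : SL(3, F) :=
  ⟨Matrix.transvection i j t, Matrix.det_transvection_of_ne i j h t⟩

theorem slThree_tv {i j : Fin 3} (h : i ≠ j) (t : F) :
    G2Oct.slThree (tv h t) = X (ChevG2SL3.rootOf i j) t :=
  Subtype.ext (ChevG2SL3.phi_transvection h t _ rfl)

theorem tv_add {i j : Fin 3} (h : i ≠ j) (s t : F) : tv h (s + t) = tv h s * tv h t :=
  Subtype.ext (Matrix.transvection_mul_transvection_same _ _ h s t).symm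

/-- The long roots. -/
def longs : List ℕ := [0, 1, 5, 6, 10, 11]

theorem longs_pairs : ∀ r ∈ longs, ∃ i j : Fin 3, i ≠ j ∧ ChevG2SL3.rootOf i j = r := by decide +kernel

theorem longs_neg : ∀ r ∈ longs, chevG2.neg r ∈ longs ∧ r < 12 := by decide +kernel

variable [Fintype F] {V : Type*} [AddCommGroup V] [Module ℂ V] [FiniteDimensional ℂ V]
  (ρ : Representation ℂ (GG F) V)

/-- The representation of `SL₃`. -/
noncomputable def sigma : Representation ℂ SL(3, F) V := MonoidHom.comp ρ G2Oct.slThree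

variable {ρ}

theorem sigma_tv {i j : Fin 3} (h : i ≠ j) (t : F) : sigma ρ (tv h t) = ρ (X (ChevG2SL3.rootOf i j) t) := by
  rw [← slThree_tv h]; rfl

/-- Stability under `SL₃`. -/
def Stab (ρ : Representation ℂ (GG F) V) (W : Submodule ℂ V) : Prop := ∀ g : SL(3, F), ∀ v ∈ W, sigma ρ g v ∈ W

variable {W : Submodule ℂ V} (hW : Stab ρ W)
include hW

theorem stab_X {r : ℕ} (hr : r ∈ longs) (t : F) {v : V} (hv : v ∈ W) : ρ (X r t) v ∈ W := by
  obtain ⟨i, j, hij, rfl⟩ := longs_pairs r hr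
  rw [← sigma_tv hij]
  exact hW _ v hv

theorem stab_Nr {r : ℕ} (hr : r ∈ longs) (a : F) {v : V} (hv : v ∈ W) : ρ (Nr r a) v ∈ W := by
  simp only [Nr, rmul]
  exact stab_X hW hr _ (stab_X hW (longs_neg r hr).1 _ (stab_X hW hr _ hv))

theorem stab_Tor {r : ℕ} (hr : r ∈ longs) (a : F) {v : V} (hv : v ∈ W) : ρ (Tor r a) v ∈ W := by
  simp only [Tor, rmul]
  exact stab_Nr hW hr _ (stab_Nr hW hr _ hv)

theorem split_W {r : ℕ} (hr : r ∈ longs) (L : List (ℕ × F))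
    (hL : ∀ t, ∀ v ∈ J ρ L, ρ (X r t) v ∈ J ρ L) :
    finrank ℂ ↥(W ⊓ J ρ L) = ∑ c : F, finrank ℂ ↥(W ⊓ J ρ ((r, c) :: L)) := by
  rw [finrank_split (longs_neg r hr).2 (W ⊓ J ρ L) fun t v hv => ⟨stab_X hW hr t hv.1, hL t v hv.2⟩]
  refine Finset.sum_congr rfl fun c _ => ?_
  rw [inf_assoc, inf_comm (J ρ L)]
  rfl

theorem W11_const {c c' : F} (hc : c ≠ 0) (hc' : c' ≠ 0) :
    finrank ℂ ↥(W ⊓ J ρ [(6, (0 : F)), (11, c)]) = finrank ℂ ↥(W ⊓ J ρ [(6, (0 : F)), (11, c')]) := by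
  have key : ∀ c c' : F, c ≠ 0 → c' ≠ 0 → finrank ℂ ↥(W ⊓ J ρ [(6, (0 : F)), (11, c)]) ≤
      finrank ℂ ↥(W ⊓ J ρ [(6, (0 : F)), (11, c')]) := fun c c' hc hc' => by
    refine finrank_le_of_maps (Tor 10 (c / c')) fun v hv => ⟨stab_Tor hW (by simp [longs]) _ hv.1, ?_⟩
    have hv2 := hv.2
    simp only [SetLike.mem_coe, mem_J_cons, mem_J_nil, and_true] at hv2 ⊢
    refine ⟨?_, ?_⟩
    · simpa using torus_mem (r := 10) (by norm_num) (div_ne_zero hc hc') hv2.1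
    · have := tor_mem (ρ := ρ) (by norm_num) pairing_vals.1 (div_ne_zero hc hc') hv2.2
      rwa [zpow_one, show c / (c / c') = c' by field_simp] at this
  exact le_antisymm (key c c' hc hc') (key c' c hc' hc)

/-- The multiplicities in a stable subspace. -/
theorem stab_dims :
    (∀ c : F, c ≠ 0 → finrank ℂ ↥(W ⊓ J ρ [(11, c)]) =
      Fintype.card F * finrank ℂ ↥(W ⊓ J ρ [(6, (0 : F)), (11, (1 : F))])) ∧
    finrank ℂ ↥(W ⊓ J ρ [(11, (0 : F))]) = finrank ℂ ↥(W ⊓ J ρ [(6, (0 : F)), (11, 0)]) +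
      (Fintype.card F - 1) * finrank ℂ ↥(W ⊓ J ρ [(6, (0 : F)), (11, (1 : F))]) ∧
    finrank ℂ W = finrank ℂ ↥(W ⊓ J ρ [(11, (0 : F))]) +
      (Fintype.card F - 1) * (Fintype.card F * finrank ℂ ↥(W ⊓ J ρ [(6, (0 : F)), (11, (1 : F))])) := by
  classical
  have eD : ∀ c : F, c ≠ 0 → finrank ℂ ↥(W ⊓ J ρ [(11, c)]) =
      Fintype.card F * finrank ℂ ↥(W ⊓ J ρ [(6, (0 : F)), (11, (1 : F))]) := fun c hc => by
    rw [split_W hW (r := 6) (by simp [longs]) [(11, c)] (stable_nil _ (by simp [nilP])),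
      Finset.sum_congr rfl fun b _ => (shift_const (ρ := ρ) (fun b : F => W ⊓ J ρ [(6, b), (11, c)]) (X 10) hc
        (fun t b v hv => by
          refine ⟨stab_X hW (by simp [longs]) t hv.1, ?_⟩
          have hv2 := hv.2
          simp only [SetLike.mem_coe, mem_J_cons, mem_J_nil, and_true] at hv2 ⊢
          exact ⟨move_10_6 hv2.1 hv2.2, move_nil (by simp [nilP]) hv2.2⟩) b 0),
      Finset.sum_const, Finset.card_univ, smul_eq_mul, W11_const hW hc one_ne_zero]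
  obtain ⟨r11, r106, -, -, -, -, -, -, -⟩ := refl_table
  obtain ⟨η11, hη11, g11⟩ := refl_mem' (ρ := ρ) (r := 10) (by norm_num) (by norm_num) r11
  obtain ⟨η6, hη6, g6⟩ := refl_mem' (ρ := ρ) (r := 10) (by norm_num) (by norm_num) r106
  have e6 : ∀ b : F, b ≠ 0 → finrank ℂ ↥(W ⊓ J ρ [(6, b), (11, (0 : F))]) =
      finrank ℂ ↥(W ⊓ J ρ [(6, (0 : F)), (11, (1 : F))]) := fun b hb => by
    refine le_antisymm ?_ ?_
    · rw [← W11_const hW (div_ne_zero hb hη6) one_ne_zero]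
      refine finrank_le_of_maps (Nr 10 1) fun v hv => ⟨stab_Nr hW (by simp [longs]) _ hv.1, ?_⟩
      have hv2 := hv.2
      simp only [SetLike.mem_coe, mem_J_cons, mem_J_nil, and_true] at hv2 ⊢
      exact ⟨by simpa using g11 hv2.2, g6 hv2.1⟩
    · rw [← W11_const hW (mul_ne_zero hb hη11) one_ne_zero]
      refine finrank_le_of_maps (Nr 10 1) fun v hv => ⟨stab_Nr hW (by simp [longs]) _ hv.1, ?_⟩
      have hv2 := hv.2
      simp only [SetLike.mem_coe, mem_J_cons, mem_J_nil, and_true] at hv2 ⊢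
      exact ⟨by simpa [hη11] using g11 hv2.2, by simpa using g6 hv2.1⟩
  refine ⟨eD, ?_, ?_⟩
  · rw [split_W hW (r := 6) (by simp [longs]) [(11, (0 : F))] (stable_nil _ (by simp [nilP])),
      sum_zero_add (fun b : F => finrank ℂ ↥(W ⊓ J ρ [(6, b), (11, (0 : F))])) e6]
  · conv_lhs => rw [← inf_top_eq W]
    rw [← sum_zero_add (fun c : F => finrank ℂ ↥(W ⊓ J ρ [(11, c)])) eD]
    exact split_W hW (r := 11) (by simp [longs]) [] fun _ _ _ => trivial

theorem long_fixed (h : ∀ v ∈ W, v ∈ Ev ρ (X 11) (0 : F)) : ∀ r ∈ longs, ∀ v ∈ W, v ∈ Ev ρ (X r) (0 : F) := by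
  have step : ∀ r s s' : ℕ, r ∈ longs → s < 12 → Chev.refl chevG2 r s = s' →
      (∀ v ∈ W, v ∈ Ev ρ (X s) (0 : F)) → ∀ v ∈ W, v ∈ Ev ρ (X s') (0 : F) := fun r s s' hr hs e hfix v hv => by
    have hinv : ρ (Nr r 1)⁻¹ v ∈ W := by rw [Nr_inv]; exact stab_Nr hW hr _ hv
    have := refl_mem_zero (ρ := ρ) (longs_neg r hr).2 hs e one_ne_zero (hfix _ hinv)
    rwa [rinv'] at this
  obtain ⟨e10, e6, e1, e5, e0⟩ : Chev.refl chevG2 6 11 = 10 ∧ Chev.refl chevG2 10 11 = 6 ∧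
      Chev.refl chevG2 11 6 = 1 ∧ Chev.refl chevG2 11 10 = 5 ∧ Chev.refl chevG2 10 5 = 0 := by decide +kernel
  have h10 := step 6 11 10 (by simp [longs]) (by norm_num) e10 h
  have h6 := step 10 11 6 (by simp [longs]) (by norm_num) e6 h
  have h1 := step 11 6 1 (by simp [longs]) (by norm_num) e1 h6
  have h5 := step 11 10 5 (by simp [longs]) (by norm_num) e5 h10
  have h0 := step 10 5 0 (by simp [longs]) (by norm_num) e0 h5
  intro r hr
  simp only [longs, List.mem_cons, List.not_mem_nil, or_false] at hr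
  rcases hr with rfl | rfl | rfl | rfl | rfl | rfl
  exacts [h0, h1, h5, h6, h10, h]

/-- No nonzero stable subspace is fixed by all long roots when the fixed line is small. -/
theorem not_all_fixed (hn : Nice ρ) (hq : 5 ≤ Fintype.card F)
    (hK : d ρ [(10, (0 : F)), (6, 0), (11, 0)] ≤ 1) (h : ∀ v ∈ W, v ∈ Ev ρ (X 11) (0 : F)) : W = ⊥ := by
  refine W.eq_bot_iff.2 fun v hv => ?_
  have hl : ∀ r ∈ longs, v ∈ Ev ρ (X r) (0 : F) := fun r hr => long_fixed hW h r hr v hv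
  have hvJ : v ∈ J ρ [(10, (0 : F)), (6, 0), (11, 0)] := by
    simpa using And.intro (hl 10 (by simp [longs])) (And.intro (hl 6 (by simp [longs])) (hl 11 (by simp [longs])))
  obtain ⟨t, ht, ht1⟩ := exists_pow_ne (F := F) (n := 1) (by norm_num) (by omega)
  rw [pow_one] at ht1
  obtain ⟨-, -, -, -, -, -, p11, p6, p8, p9, p10, -⟩ := pairing_vals
  have htor : ∀ w ∈ J ρ [(10, (0 : F)), (6, 0), (11, 0)], ρ (Tor 7 t) w ∈ J ρ [(10, (0 : F)), (6, 0), (11, 0)] :=
    fun w hw => by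
      simp only [mem_J_cons, mem_J_nil, and_true] at hw ⊢
      exact ⟨by simpa using tor_mem (by norm_num) p10 ht hw.1, by simpa using tor_mem (by norm_num) p6 ht hw.2.1,
        by simpa using tor_mem (by norm_num) p11 ht hw.2.2⟩
  have h8 : v ∈ Ev ρ (X 8) (0 : F) :=
    line_fix (r := 8) (by norm_num) hK (stable_nil _ (by simp [nilP])) (Tor 7 t) htor (a := t ^ (-1 : ℤ))
      (by simpa using ht1) (fun u => by rw [← p8]; exact Tor_conj (by norm_num) ht u) hvJ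
  have h9 : v ∈ Ev ρ (X 9) (0 : F) :=
    line_fix (r := 9) (by norm_num) hK (stable_nil _ (by simp [nilP])) (Tor 7 t) htor (a := t ^ (1 : ℤ))
      (by simpa using ht1) (fun u => by rw [← p9]; exact Tor_conj (by norm_num) ht u) hvJ
  have f5 := (mem_Ev_zero ρ).1 (hl 5 (by simp [longs]))
  have f8 := (mem_Ev_zero ρ).1 h8
  have f9 := (mem_Ev_zero ρ).1 h9
  have f10 := (mem_Ev_zero ρ).1 (hl 10 (by simp [longs]))
  have f11 := (mem_Ev_zero ρ).1 (hl 11 (by simp [longs]))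
  have h7 : v ∈ Ev ρ (X 7) (0 : F) := by
    rw [mem_Ev_zero]
    intro s
    have hc := congrArg (fun g => ρ g v) (X_comm (F := F) (r := 5) (s := 8) (by norm_num) (by norm_num)
      (by norm_num) (by decide +kernel) (-s) 1)
    have e : chevG2.commTerms 5 8 = [(7, 1, 1, 1), (9, -1, 1, 2), (11, 1, 1, 3), (10, 2, 2, 3)] := by decide +kernel
    simp [ChevalleyDatum.commWord, e, f5, f8, f9, f10, f11] at hc
    have h1 := congrArg (ρ (X 5 (-s))⁻¹) hc
    rw [rinv, X_inv, neg_neg, f5] at h1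
    have h2 := congrArg (ρ (X 8 (1 : F))⁻¹) h1
    rw [rinv, X_inv, f8] at h2
    exact h2.symm
  have nfix : ∀ r r' s s' : ℕ, r < 12 → chevG2.neg r = r' → s < 12 → Chev.refl chevG2 r s = s' →
      v ∈ Ev ρ (X r) (0 : F) → v ∈ Ev ρ (X r') (0 : F) → v ∈ Ev ρ (X s) (0 : F) → v ∈ Ev ρ (X s') (0 : F) :=
    fun r r' s s' hr e hs e' h1 h2 h3 => by
      subst e
      have := refl_mem_zero (ρ := ρ) hr hs e' one_ne_zero h3
      simpa [Nr, (mem_Ev_zero ρ).1 h1, (mem_Ev_zero ρ).1 h2] using this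
  obtain ⟨e4, e2, e3⟩ : Chev.refl chevG2 10 9 = 4 ∧ Chev.refl chevG2 10 7 = 2 ∧
      Chev.refl chevG2 11 9 = 3 := by decide +kernel
  have l := fun r (hr : r ∈ longs) => hl r hr
  have h4 := nfix 10 1 9 4 (by norm_num) neg_vals.2.2.1 (by norm_num) e4 (l 10 (by simp [longs]))
    (l 1 (by simp [longs])) h9
  have h2' := nfix 10 1 7 2 (by norm_num) neg_vals.2.2.1 (by norm_num) e2 (l 10 (by simp [longs]))
    (l 1 (by simp [longs])) h7
  have h3' := nfix 11 0 9 3 (by norm_num) neg_vals.2.2.2 (by norm_num) e3 (l 11 (by simp [longs]))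
    (l 0 (by simp [longs])) h9
  refine hn.fixed v fun r hr => ?_
  interval_cases r
  exacts [l 0 (by simp [longs]), l 1 (by simp [longs]), h2', h3', h4, l 5 (by simp [longs]),
    l 6 (by simp [longs]), h7, h8, h9, l 10 (by simp [longs]), l 11 (by simp [longs])]

end Cfsg.Agent.G2MinDeg
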