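import Cfsg.Agent.Lib.G2MinDeg.Basic
import Cfsg.Agent.Lib.Char.Integral

/-!
# Root elements of G₂ moving eigencharacters

* `move_nil`: commuting root elements preserve the eigenspaces; `move_*`: the others that are used.
* `tor_mem`, `refl_mem'`: tori and reflections with the table values.
* `shift_const`, `trace_param`, `orthSub`: general tools.
-/

set_option autoImplicit false
set_option linter.unusedSectionVars false

namespace Cfsg.Agent.G2MinDeg

open Module Cfsg.Lie Cfsg.Lie.ChevalleyDatum Cfsg.Agent.Chev Cfsg.Agent.ChevBN Cfsg.Agent.MinRep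

/-- Pairs with commuting root subgroups. -/
def nilP : List (ℕ × ℕ) :=
  [(10, 8), (10, 9), (10, 11), (11, 6), (11, 7), (11, 8), (11, 9), (11, 10), (6, 8), (6, 9), (6, 11),
    (8, 6), (8, 10), (8, 11), (9, 6), (9, 10), (9, 11), (1, 6), (1, 8), (7, 10), (7, 11), (4, 6), (4, 11),
    (5, 10), (0, 5), (5, 0)]

theorem nilP_spec : ∀ p ∈ nilP, p.1 < 12 ∧ p.2 < 12 ∧ p.2 ≠ p.1 ∧ p.2 ≠ chevG2.neg p.1 ∧
    chevG2.commTerms p.1 p.2 = [] := by decide +kernel

theorem neg_vals : chevG2.neg 6 = 5 ∧ chevG2.neg 7 = 4 ∧ chevG2.neg 10 = 1 ∧ chevG2.neg 11 = 0 := by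
  decide +kernel

/-- Pairings used. -/
theorem pairing_vals :
    chevG2.pairing 10 11 = 1 ∧ chevG2.pairing 6 10 = -1 ∧ chevG2.pairing 6 6 = 2 ∧ chevG2.pairing 6 11 = 1 ∧
    chevG2.pairing 6 8 = 1 ∧ chevG2.pairing 6 9 = 0 ∧ chevG2.pairing 7 11 = 0 ∧ chevG2.pairing 7 6 = -3 ∧
    chevG2.pairing 7 8 = -1 ∧ chevG2.pairing 7 9 = 1 ∧ chevG2.pairing 7 10 = 3 ∧ chevG2.pairing 7 1 = -3 := by
  decide +kernel

variable {F : Type*} [Field F] [Fintype F] {V : Type*} [AddCommGroup V] [Module ℂ V]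
  {ρ : Representation ℂ (GG F) V}

theorem move_nil {r s : ℕ} (h : s = r ∧ r < 12 ∨ (r, s) ∈ nilP) {t c : F} {v : V} (hv : v ∈ Ev ρ (X s) c) :
    ρ (X r t) v ∈ Ev ρ (X s) c := by
  rcases h with ⟨rfl, hr⟩ | h
  · exact moveX_self hr hv
  · obtain ⟨h1, h2, h3, h4, h5⟩ := nilP_spec _ h
    exact moveX_nil h1 h2 h3 h4 h5 hv

theorem tor_mem {r s : ℕ} {n : ℤ} (hr : r < 12) (hn : chevG2.pairing r s = n) {t c : F} (ht : t ≠ 0) {v : V}
    (hv : v ∈ Ev ρ (X s) c) : ρ (Tor r t) v ∈ Ev ρ (X s) (c / t ^ n) := hn ▸ torus_mem hr ht hv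

/-- Reflection with the value of the reflected root. -/
theorem refl_mem' {r s s' : ℕ} (hr : r < 12) (hs : s < 12) (e : Chev.refl chevG2 r s = s') :
    ∃ η : F, η ≠ 0 ∧ ∀ {c : F} {v : V}, v ∈ Ev ρ (X s) c → ρ (Nr r 1) v ∈ Ev ρ (X s') (c / η) := by
  subst e
  exact refl_mem hr hs one_ne_zero

/-! ### Nontrivial moves -/

theorem move_10_6 {t b c : F} {v : V} (hv : v ∈ Ev ρ (X 6) b) (h11 : v ∈ Ev ρ (X 11) c) :
    ρ (X 10 t) v ∈ Ev ρ (X 6) (b + c * t) := by
  have e : chevG2.commTerms 10 6 = [(11, -1, 1, 1)] := by decide +kernel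
  refine moveX (by norm_num) (by norm_num) (by norm_num) (by decide +kernel) (fun _ => c) hv
    (by simp [e, h11]) fun u => ?_
  simp [phase, e]
  ring

theorem move_6_10 {t d c : F} {v : V} (hv : v ∈ Ev ρ (X 10) d) (h11 : v ∈ Ev ρ (X 11) c) :
    ρ (X 6 t) v ∈ Ev ρ (X 10) (d - c * t) := by
  have e : chevG2.commTerms 6 10 = [(11, 1, 1, 1)] := by decide +kernel
  refine moveX (by norm_num) (by norm_num) (by norm_num) (by decide +kernel) (fun _ => c) hv
    (by simp [e, h11]) fun u => ?_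
  simp [phase, e]
  ring

theorem move_9_8 {t a c : F} {v : V} (hv : v ∈ Ev ρ (X 8) a) (h11 : v ∈ Ev ρ (X 11) c) :
    ρ (X 9 t) v ∈ Ev ρ (X 8) (a + 3 * c * t) := by
  have e : chevG2.commTerms 9 8 = [(11, -3, 1, 1)] := by decide +kernel
  refine moveX (by norm_num) (by norm_num) (by norm_num) (by decide +kernel) (fun _ => c) hv
    (by simp [e, h11]) fun u => ?_
  simp [phase, e]
  ring

theorem move_1_11 {t b c : F} {v : V} (hv : v ∈ Ev ρ (X 11) c) (h6 : v ∈ Ev ρ (X 6) b) :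
    ρ (X 1 t) v ∈ Ev ρ (X 11) (c + b * t) := by
  have e : chevG2.commTerms 1 11 = [(6, -1, 1, 1)] := by decide +kernel
  refine moveX (by norm_num) (by norm_num) (by norm_num) (by decide +kernel) (fun _ => b) hv
    (by simp [e, h6]) fun u => ?_
  simp [phase, e]
  ring

theorem move_0_10 {t a c : F} {v : V} (hv : v ∈ Ev ρ (X 10) c) (h5 : v ∈ Ev ρ (X 5) a) :
    ρ (X 0 t) v ∈ Ev ρ (X 10) (c + a * t) := by
  have e : chevG2.commTerms 0 10 = [(5, -1, 1, 1)] := by decide +kernel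
  refine moveX (by norm_num) (by norm_num) (by norm_num) (by decide +kernel) (fun _ => a) hv
    (by simp [e, h5]) fun u => ?_
  simp [phase, e]
  ring

section Three

variable (h3 : (3 : F) = 0)
include h3

theorem move3_nil {r s : ℕ} (h : (r, s) ∈ [(8, 9), (9, 8), (7, 9), (4, 8)]) {t c : F} {v : V}
    (hv : v ∈ Ev ρ (X s) c) : ρ (X r t) v ∈ Ev ρ (X s) c := by
  have e : ∀ p ∈ [(8, 9), (9, 8), (7, 9), (4, 8)], p.1 < 12 ∧ p.2 < 12 ∧ p.2 ≠ p.1 ∧ p.2 ≠ chevG2.neg p.1 ∧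
      ∀ k ∈ chevG2.commTerms p.1 p.2, k.2.1 = 3 ∨ k.2.1 = -3 := by decide +kernel
  obtain ⟨h1, h2, h4, h5, h6⟩ := e _ h
  have h7 : ∀ k ∈ chevG2.commTerms r s, (k.2.1 : F) = 0 := fun k hk => by
    rcases h6 k hk with e | e <;> simp [e, h3]
  refine moveX h1 h2 h4 h5 (fun _ => 0) hv (fun k hk => Or.inl (h7 k hk)) fun u => ?_
  rw [show phase (fun _ => 0) r s t u = 0 by simp [phase], add_zero]

theorem move_7_8 {t e f : F} {v : V} (hv : v ∈ Ev ρ (X 8) e) (h9 : v ∈ Ev ρ (X 9) f) :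
    ρ (X 7 t) v ∈ Ev ρ (X 8) (e + 2 * f * t) := by
  have ht : chevG2.commTerms 7 8 = [(9, -2, 1, 1), (10, -3, 2, 1), (11, 3, 1, 2)] := by decide +kernel
  refine moveX (by norm_num) (by norm_num) (by norm_num) (by decide +kernel) (fun _ => f) hv
    (by simp [ht, h9, h3]) fun u => ?_
  simp [phase, ht, h3]
  ring

theorem move_4_9 {t e f : F} {v : V} (hv : v ∈ Ev ρ (X 9) f) (h8 : v ∈ Ev ρ (X 8) e) :
    ρ (X 4 t) v ∈ Ev ρ (X 9) (f + 2 * e * t) := by
  have ht : chevG2.commTerms 4 9 = [(8, -2, 1, 1), (6, 3, 2, 1), (11, -3, 1, 2)] := by decide +kernel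
  refine moveX (by norm_num) (by norm_num) (by norm_num) (by decide +kernel) (fun _ => e) hv
    (by simp [ht, h8, h3]) fun u => ?_
  simp [phase, ht, h3]
  ring

end Three

/-- The eigencharacter used to move `X 7` past `X 6`. -/
theorem move_7_6 {t b d e f : F} {v : V} (hv : v ∈ Ev ρ (X 6) b) (h10 : v ∈ Ev ρ (X 10) d)
    (h8 : v ∈ Ev ρ (X 8) e) (h9 : v ∈ Ev ρ (X 9) f) (h11 : v ∈ Ev ρ (X 11) 0) :
    ρ (X 7 t) v ∈ Ev ρ (X 6) (b + e * t + f * t ^ 2 - d * t ^ 3) := by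
  have ht : chevG2.commTerms 7 6 = [(8, -1, 1, 1), (9, 1, 2, 1), (10, 1, 3, 1), (11, 1, 3, 2)] := by
    decide +kernel
  refine moveX (by norm_num) (by norm_num) (by norm_num) (by decide +kernel)
    (fun r => if r = 8 then e else if r = 9 then f else if r = 10 then d else 0) hv
    (by simp [ht, h8, h9, h10, h11]) fun u => ?_
  simp [phase, ht]
  ring

theorem move_4_10 {t b d : F} {v : V} (hv : v ∈ Ev ρ (X 10) d) (h9 : v ∈ Ev ρ (X 9) 0)
    (h8 : v ∈ Ev ρ (X 8) 0) (h6 : v ∈ Ev ρ (X 6) b) (h11 : v ∈ Ev ρ (X 11) 0) :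
    ρ (X 4 t) v ∈ Ev ρ (X 10) (d - b * t ^ 3) := by
  have ht : chevG2.commTerms 4 10 = [(9, 1, 1, 1), (8, -1, 2, 1), (6, 1, 3, 1), (11, -1, 3, 2)] := by
    decide +kernel
  refine moveX (by norm_num) (by norm_num) (by norm_num) (by decide +kernel)
    (fun r => if r = 6 then b else 0) hv (by simp [ht, h8, h9, h6, h11]) fun u => ?_
  simp [phase, ht]
  ring

@[simp] theorem mem_J_nil {v : V} : v ∈ J ρ ([] : List (ℕ × F)) ↔ True := by simp [J]

@[simp] theorem mem_J_cons {p : ℕ × F} {L : List (ℕ × F)} {v : V} :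
    v ∈ J ρ (p :: L) ↔ v ∈ Ev ρ (X p.1) p.2 ∧ v ∈ J ρ L := Iff.rfl

/-- Commuting root elements preserve joint eigenspaces. -/
theorem stable_nil {r : ℕ} (L : List (ℕ × F)) (h : ∀ s ∈ L.map Prod.fst, s = r ∧ r < 12 ∨ (r, s) ∈ nilP)
    (t : F) (v : V) (hv : v ∈ J ρ L) : ρ (X r t) v ∈ J ρ L := by
  rw [mem_J] at hv ⊢
  exact fun p hp => move_nil (h _ (List.mem_map.2 ⟨p, hp, rfl⟩)) (hv p hp)

section Fin

variable [FiniteDimensional ℂ V]

/-- A family of subspaces translated transitively. -/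
theorem shift_const (W : F → Submodule ℂ V) (g : F → GG F) {a : F} (ha : a ≠ 0)
    (h : ∀ t b, ∀ v ∈ W b, ρ (g t) v ∈ W (b + a * t)) (b b' : F) : finrank ℂ (W b) = finrank ℂ (W b') :=
  have key : ∀ b b', finrank ℂ (W b) ≤ finrank ℂ (W b') := fun b b' =>
    finrank_le_of_maps (g ((b' - b) / a)) fun v hv => by
      have := h ((b' - b) / a) b v hv
      rwa [mul_div_cancel₀ _ ha, add_sub_cancel] at this
  le_antisymm (key b b') (key b' b)

end Fin

end Cfsg.Agent.G2MinDeg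

namespace Cfsg.Agent.G2MinDeg

open Module Cfsg.Agent.MinRep

variable {F : Type*} [Field F] [Fintype F] {G : Type*} [Group G] {V : Type*} [AddCommGroup V] [Module ℂ V]
  [FiniteDimensional ℂ V] {ρ : Representation ℂ G V}

/-- The trace of an element of a one-parameter subgroup. -/
theorem trace_param {x : F → G} (hx : ∀ s t, x (s + t) = x s * x t) (t : F) :
    ρ.character (x t) = ∑ c : F, psi F (c * t) * (finrank ℂ (Ev ρ x c) : ℂ) := by
  have e : ρ (x t) = ∑ c : F, psi F (c * t) • Pr ρ x c := LinearMap.ext fun v => by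
    rw [LinearMap.sum_apply]
    conv_lhs => rw [← sum_Pr ρ hx v, map_sum]
    exact Finset.sum_congr rfl fun c _ => by rw [LinearMap.smul_apply, rep_Pr ρ hx, Pr_rep ρ hx]
  show LinearMap.trace ℂ V (ρ (x t)) = _
  rw [e, map_sum]
  refine Finset.sum_congr rfl fun c _ => ?_
  rw [map_smul, smul_eq_mul, (LinearMap.IsProj.mk (Pr_mem ρ hx c) fun v hv => Pr_self ρ hx hv).trace]

/-- The trace at `1` when all nontrivial eigencharacters have one multiplicity. -/
theorem trace_one_eq {x : F → G} (hx : ∀ s t, x (s + t) = x s * x t) {D : ℕ}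
    (hD : ∀ c ≠ 0, finrank ℂ (Ev ρ x c) = D) :
    ρ.character (x 1) = (finrank ℂ (Ev ρ x (0 : F)) : ℂ) - D := by
  classical
  rw [trace_param hx, ← Finset.add_sum_erase _ _ (Finset.mem_univ (0 : F))]
  have h0 : ∑ c : F, psi F c = 0 := AddChar.sum_eq_zero_of_ne_one psi_ne
  rw [← Finset.add_sum_erase _ _ (Finset.mem_univ (0 : F)), AddChar.map_zero_eq_one] at h0
  rw [Finset.sum_congr rfl fun c hc => by rw [mul_one, hD c (Finset.ne_of_mem_erase hc)], ← Finset.sum_mul,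
    zero_mul, AddChar.map_zero_eq_one, one_mul, eq_neg_of_add_eq_zero_right h0]
  ring

variable (H : Herm ρ)

/-- The orthogonal complement. -/
def orthSub (W : Submodule ℂ V) : Submodule ℂ V := ⨅ w : W, LinearMap.ker (H.B w)

theorem mem_orthSub {W : Submodule ℂ V} {v : V} : v ∈ orthSub H W ↔ ∀ w ∈ W, H.B w v = 0 := by
  simp [orthSub, Submodule.mem_iInf]

theorem disjoint_orth (W : Submodule ℂ V) : Disjoint W (orthSub H W) :=
  Submodule.disjoint_def.2 fun v hv hv' => H.eq_zero ((mem_orthSub H).1 hv' v hv)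

theorem sup_orth (W : Submodule ℂ V) : W ⊔ orthSub H W = ⊤ := by
  let b := Module.finBasis ℂ W
  let Φ : V →ₗ[ℂ] (Fin (finrank ℂ W) → ℂ) := LinearMap.pi fun i => H.B (b i : V)
  have hker : LinearMap.ker Φ ≤ orthSub H W := by
    intro v hv
    rw [mem_orthSub]
    intro w hw
    have e : w = ∑ i, b.repr ⟨w, hw⟩ i • (b i : V) := by
      refine (congrArg W.subtype (b.sum_repr ⟨w, hw⟩).symm).trans ?_
      rw [map_sum]
      exact Finset.sum_congr rfl fun i _ => map_smul _ _ _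
    rw [e, H.sum_left]
    refine Finset.sum_eq_zero fun i _ => ?_
    rw [H.smul_left, show H.B (b i : V) v = 0 from congrFun (LinearMap.mem_ker.1 hv) i, mul_zero]
  refine Submodule.eq_top_of_disjoint _ _ ?_ (disjoint_orth H W)
  have h1 := LinearMap.finrank_range_add_finrank_ker Φ
  have h2 := Submodule.finrank_le (LinearMap.range Φ)
  rw [Module.finrank_fin_fun] at h2
  have h3 := Submodule.finrank_mono hker
  omega

theorem orth_stable {W : Submodule ℂ V} {g : G} (hW : ∀ w ∈ W, ρ g⁻¹ w ∈ W) {v : V} (hv : v ∈ orthSub H W) :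
    ρ g v ∈ orthSub H W := by
  rw [mem_orthSub] at hv ⊢
  intro w hw
  rw [H.inv_right]
  exact hv _ (hW w hw)

/-- Pairwise orthogonal subspaces have total dimension at most that of a space containing them. -/
theorem sum_finrank_orth_le {ι : Type*} [Fintype ι] (U : ι → Submodule ℂ V) {W : Submodule ℂ V}
    (hU : ∀ i, U i ≤ W) (h : ∀ i j, i ≠ j → ∀ u ∈ U i, ∀ v ∈ U j, H.B u v = 0) :
    ∑ i, finrank ℂ (U i) ≤ finrank ℂ W := by
  classical
  let Φ : ((i : ι) → U i) →ₗ[ℂ] V := ∑ i, (U i).subtype ∘ₗ LinearMap.proj i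
  have hΦ : ∀ f, Φ f = ∑ i, (f i : V) := fun f => by simp [Φ]
  have hinj : Function.Injective Φ := by
    refine LinearMap.ker_eq_bot.1 (LinearMap.ker_eq_bot'.2 fun f hf => funext fun i => Subtype.ext ?_)
    refine H.eq_zero ?_
    have := congrArg (H.B (f i : V)) ((hΦ f).symm.trans hf)
    rwa [map_sum, map_zero, Finset.sum_eq_single i (fun j _ hj => h i j hj.symm _ (f i).2 _ (f j).2)
      (fun h => absurd (Finset.mem_univ i) h)] at this
  have h1 : LinearMap.range Φ ≤ W := by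
    rintro _ ⟨f, rfl⟩
    rw [hΦ]
    exact W.sum_mem fun i _ => hU i (f i).2
  have h2 := Submodule.finrank_mono h1
  rwa [LinearMap.finrank_range_of_inj hinj, Module.finrank_pi_fintype] at h2

/-- A vector without fixed component is orthogonal to the fixed vectors. -/
theorem orth_fixed {x : F → G} (hx : ∀ s t, x (s + t) = x s * x t) {W : Submodule ℂ V}
    (hW : ∀ t, ∀ w ∈ W, ρ (x t) w ∈ W) (h0 : ∀ w ∈ W, w ∈ Ev ρ x 0 → w = 0) {w v : V} (hw : w ∈ W)
    (hv : v ∈ Ev ρ x 0) : H.B w v = 0 := by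
  rw [← Pr_self ρ hx hv, ← H.Pr_adjoint hx, h0 _ (Pr_mapsTo ρ hW hw) (Pr_mem ρ hx 0 w), H.zero_left]

end Cfsg.Agent.G2MinDeg
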