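import Cfsg.Agent.Lib.G2MinDeg.Setup

/-!
# Representations of G₂(q), characteristic not three: multiplicities

* `Small`: the multiplicities forced by a small degree; `ne3_cases`; `bound_pred`.
-/

set_option autoImplicit false
set_option linter.unusedSectionVars false

namespace Cfsg.Agent.G2MinDeg

open Module Cfsg.Lie Cfsg.Lie.ChevalleyDatum Cfsg.Agent.Chev Cfsg.Agent.ChevBN Cfsg.Agent.MinRep

variable {F : Type*} [Field F] [Fintype F] {V : Type*} [AddCommGroup V] [Module ℂ V] [FiniteDimensional ℂ V]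
  {ρ : Representation ℂ (GG F) V}

theorem refl_table : Chev.refl chevG2 10 11 = 6 ∧ Chev.refl chevG2 10 6 = 11 ∧ Chev.refl chevG2 10 8 = 8 ∧
    Chev.refl chevG2 10 1 = 10 ∧ Chev.refl chevG2 7 6 = 10 ∧ Chev.refl chevG2 7 10 = 6 ∧
    Chev.refl chevG2 7 11 = 11 ∧ Chev.refl chevG2 7 8 = 9 ∧ Chev.refl chevG2 7 9 = 8 := by
  decide +kernel

/-- `q ^ 2` times the multiplicity of a character of the abelian group of the roots `6, 8, 11`. -/
theorem D_eq (h3 : (3 : F) ≠ 0) {c : F} (hc : c ≠ 0) : d ρ [(11, c)] =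
    Fintype.card F ^ 2 * d ρ [(8, 0), (6, 0), (11, c)] := by
  classical
  have s1 := split_J (ρ := ρ) (r := 6) (by norm_num) [(11, c)] (stable_nil _ (by simp [nilP]))
  have e1 : ∀ b : F, d ρ [(6, b), (11, c)] = d ρ [(6, (0 : F)), (11, c)] := fun b =>
    shift_const (ρ := ρ) (fun b : F => J ρ [(6, b), (11, c)]) (X 10) hc (fun t b v hv => by
      simp only [mem_J_cons, mem_J_nil, and_true] at hv ⊢
      exact ⟨move_10_6 hv.1 hv.2, move_nil (by simp [nilP]) hv.2⟩) b 0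
  have s2 := split_J (ρ := ρ) (r := 8) (by norm_num) [(6, (0 : F)), (11, c)] (stable_nil _ (by simp [nilP]))
  have e2 : ∀ e : F, d ρ [(8, e), (6, 0), (11, c)] = d ρ [(8, (0 : F)), (6, 0), (11, c)] := fun e =>
    shift_const (ρ := ρ) (fun e : F => J ρ [(8, e), (6, 0), (11, c)]) (X 9) (mul_ne_zero h3 hc) (fun t e v hv => by
      simp only [mem_J_cons, mem_J_nil, and_true] at hv ⊢
      exact ⟨move_9_8 hv.1 hv.2.2, move_nil (by simp [nilP]) hv.2.1, move_nil (by simp [nilP]) hv.2.2⟩) e 0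
  simp only [d] at e1 e2 ⊢
  rw [s1, Finset.sum_congr rfl fun b _ => e1 b, s2, Finset.sum_congr rfl fun e _ => e2 e]
  simp [mul_assoc, sq]

/-- The multiplicities when the smallest one equals one. -/
structure Small (ρ : Representation ℂ (GG F) V) : Prop where
  d611 : ∀ c : F, c ≠ 0 → d ρ [(6, (0 : F)), (11, c)] = Fintype.card F
  d10 : ∀ c : F, c ≠ 0 → 0 < d ρ [(10, c), (6, (0 : F)), (11, 0)]
  d10c : ∀ c c' : F, c ≠ 0 → c' ≠ 0 → d ρ [(10, c), (6, (0 : F)), (11, 0)] = d ρ [(10, c'), (6, 0), (11, 0)]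
  dim : finrank ℂ V = (Fintype.card F - 1) * (Fintype.card F ^ 2 + Fintype.card F +
    d ρ [(10, (1 : F)), (6, (0 : F)), (11, 0)]) + d ρ [(10, (0 : F)), (6, 0), (11, 0)]

theorem d10_le {c c' : F} (hc : c ≠ 0) (hc' : c' ≠ 0) :
    d ρ [(10, c), (6, (0 : F)), (11, 0)] ≤ d ρ [(10, c'), (6, (0 : F)), (11, 0)] := by
  refine refl_le _ _ (Tor 6 (c' / c)) fun v hv => ?_
  simp only [mem_J_cons, mem_J_nil, and_true] at hv ⊢
  have ht := div_ne_zero hc' hc
  refine ⟨?_, ?_, ?_⟩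
  · have := tor_mem (by norm_num) pairing_vals.2.1 ht hv.1
    rwa [zpow_neg_one, show c / (c' / c)⁻¹ = c' by field_simp] at this
  · simpa using tor_mem (by norm_num) pairing_vals.2.2.1 ht hv.2.1
  · simpa using tor_mem (by norm_num) pairing_vals.2.2.2.1 ht hv.2.2

theorem small_of_one (h3 : (3 : F) ≠ 0) (hq : 5 ≤ Fintype.card F)
    (h1 : ∀ c : F, c ≠ 0 → d ρ [(8, 0), (6, 0), (11, c)] = 1) : Small ρ := by
  classical
  have d611 : ∀ c : F, c ≠ 0 → d ρ [(6, (0 : F)), (11, c)] = Fintype.card F := fun c hc => by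
    have s2 := split_J (ρ := ρ) (r := 8) (by norm_num) [(6, (0 : F)), (11, c)] (stable_nil _ (by simp [nilP]))
    simp only [d] at h1 ⊢
    have e2 : ∀ e : F, finrank ℂ (J ρ [(8, e), (6, 0), (11, c)]) = 1 := fun e =>
      (shift_const (ρ := ρ) (fun e : F => J ρ [(8, e), (6, 0), (11, c)]) (X 9) (mul_ne_zero h3 hc)
        (fun t e v hv => by
          simp only [mem_J_cons, mem_J_nil, and_true] at hv ⊢
          exact ⟨move_9_8 hv.1 hv.2.2, move_nil (by simp [nilP]) hv.2.1, move_nil (by simp [nilP]) hv.2.2⟩)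
        e 0).trans (h1 c hc)
    rw [s2, Finset.sum_congr rfl fun e _ => e2 e]
    simp
  obtain ⟨r11, r106, r108, r101, r76, r710, r711, -, -⟩ := refl_table
  obtain ⟨η11, hη11, g11⟩ := refl_mem' (ρ := ρ) (r := 10) (by norm_num) (by norm_num) r11
  obtain ⟨η6, hη6, g6⟩ := refl_mem' (ρ := ρ) (r := 10) (by norm_num) (by norm_num) r106
  obtain ⟨η8, hη8, g8⟩ := refl_mem' (ρ := ρ) (r := 10) (by norm_num) (by norm_num) r108
  obtain ⟨η1, hη1, g1⟩ := refl_mem' (ρ := ρ) (r := 10) (by norm_num) (by norm_num) r101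
  -- a vector with character on root `10`
  obtain ⟨t, ht, ht3⟩ := exists_pow_ne (F := F) (n := 3) (by norm_num) (by omega)
  obtain ⟨v, hv, hv0⟩ := exists_mem_of_pos (W := J ρ [(8, (0 : F)), (6, 0), (11, (1 : F))])
    (by have := h1 1 one_ne_zero; simp only [d] at this; omega)
  have hv1 : v ∈ Ev ρ (X 1) 0 := by
    refine line_fix (r := 1) (by norm_num) (le_of_eq (h1 1 one_ne_zero)) (fun s w hw => ?_) (Tor 7 t)
      (fun w hw => ?_) (a := t ^ (-3 : ℤ)) ?_ (fun u => ?_) hv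
    · simp only [mem_J_cons, mem_J_nil, and_true] at hw ⊢
      exact ⟨move_nil (by simp [nilP]) hw.1, move_nil (by simp [nilP]) hw.2.1,
        by simpa using move_1_11 (t := s) hw.2.2 hw.2.1⟩
    · simp only [mem_J_cons, mem_J_nil, and_true] at hw ⊢
      obtain ⟨-, -, -, -, -, -, p11, p6, p8, -⟩ := pairing_vals
      exact ⟨by simpa using tor_mem (by norm_num) p8 ht hw.1, by simpa using tor_mem (by norm_num) p6 ht hw.2.1,
        by simpa using tor_mem (by norm_num) p11 ht hw.2.2⟩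
    · rw [zpow_neg, Ne, inv_eq_one]
      exact_mod_cast ht3
    · rw [← pairing_vals.2.2.2.2.2.2.2.2.2.2.2]
      exact Tor_conj (by norm_num) ht u
  simp only [mem_J_cons, mem_J_nil, and_true] at hv
  set w := ρ (Nr 10 1) v with hw
  obtain ⟨ζ6, hζ6, k6⟩ := refl_mem' (ρ := ρ) (r := 7) (by norm_num) (by norm_num) r76
  obtain ⟨ζ10, hζ10, k10⟩ := refl_mem' (ρ := ρ) (r := 7) (by norm_num) (by norm_num) r710
  obtain ⟨ζ11, hζ11, k11⟩ := refl_mem' (ρ := ρ) (r := 7) (by norm_num) (by norm_num) r711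
  have hw' : ρ (Nr 7 1) w ∈ J ρ [(10, 1 / η11 / ζ6), (6, 0), (11, 0)] := by
    simp only [mem_J_cons, mem_J_nil, and_true]
    exact ⟨k6 (g11 hv.2.2), by simpa using k10 (g1 hv1), by simpa using k11 (g6 hv.2.1)⟩
  have hne : ρ (Nr 7 1) w ≠ 0 := fun e => hv0 (rinj ρ _ ((rinj ρ _ (e.trans (map_zero _).symm)).trans
    (map_zero _).symm))
  have hpos := finrank_pos_of_mem hw' hne
  have hnz : (1 : F) / η11 / ζ6 ≠ 0 := div_ne_zero (div_ne_zero one_ne_zero hη11) hζ6
  refine ⟨d611, fun c hc => lt_of_lt_of_le hpos (d10_le hnz hc),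
    fun c c' hc hc' => le_antisymm (d10_le hc hc') (d10_le hc' hc), ?_⟩
  have e6 : ∀ b : F, b ≠ 0 → d ρ [(6, b), (11, (0 : F))] = Fintype.card F := fun b hb => by
    refine le_antisymm ?_ ?_
    · rw [← d611 (b / η6) (div_ne_zero hb hη6)]
      refine refl_le _ _ (Nr 10 1) fun v hv => ?_
      simp only [mem_J_cons, mem_J_nil, and_true] at hv ⊢
      exact ⟨by simpa using g11 hv.2, g6 hv.1⟩
    · rw [← d611 (b * η11) (mul_ne_zero hb hη11)]
      refine refl_le _ _ (Nr 10 1) fun v hv => ?_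
      simp only [mem_J_cons, mem_J_nil, and_true] at hv ⊢
      exact ⟨by simpa [hη11] using g11 hv.2, by simpa using g6 hv.1⟩
  have s3 := split_J (ρ := ρ) (r := 6) (by norm_num) [(11, (0 : F))] (stable_nil _ (by simp [nilP]))
  rw [sum_zero_add (fun b : F => d ρ [(6, b), (11, 0)]) e6] at s3
  have s4 := split_J (ρ := ρ) (r := 10) (by norm_num) [(6, (0 : F)), (11, 0)] (fun t v hv => by
    simp only [mem_J_cons, mem_J_nil, and_true] at hv ⊢
    exact ⟨by simpa using move_10_6 (t := t) hv.1 hv.2, move_nil (by simp [nilP]) hv.2⟩)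
  rw [sum_zero_add (fun c : F => d ρ [(10, c), (6, 0), (11, 0)]) fun c hc =>
    le_antisymm (d10_le hc one_ne_zero) (d10_le one_ne_zero hc)] at s4
  rw [dim_top (ρ := ρ), D_eq h3 one_ne_zero, h1 1 one_ne_zero]
  simp only [d] at s3 s4 ⊢
  rw [s3, s4]
  ring

theorem ne3_cases (h : Nice ρ) (h3 : (3 : F) ≠ 0) (hq : 5 ≤ Fintype.card F) :
    Fintype.card F ^ 3 + 1 ≤ finrank ℂ V ∨ Small ρ := by
  have hm : ∀ c : F, c ≠ 0 → d ρ [(8, 0), (6, 0), (11, c)] = d ρ [(8, (0 : F)), (6, 0), (11, (1 : F))] :=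
    fun c hc => by
      have := (D_eq (ρ := ρ) h3 hc).symm.trans ((d11_const hc one_ne_zero).trans (D_eq h3 one_ne_zero))
      exact Nat.eq_of_mul_eq_mul_left (pow_pos Fintype.card_pos 2) this
  have hD := h.exists_D
  rw [D_eq h3 one_ne_zero] at hD
  set m := d ρ [(8, (0 : F)), (6, 0), (11, (1 : F))] with hmdef
  rcases Nat.lt_or_ge m 2 with hlt | hge
  · have hm1 : m = 1 := by
      have := pos_of_mul_pos_right hD (Nat.zero_le _)
      omega
    exact Or.inr (small_of_one h3 hq fun c hc => (hm c hc).trans hm1)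
  · left
    rw [dim_top (ρ := ρ), D_eq h3 one_ne_zero, ← hmdef]
    obtain ⟨n, hn⟩ : ∃ n, Fintype.card F = n + 5 := ⟨Fintype.card F - 5, by omega⟩
    rw [hn, show n + 5 - 1 = n + 4 from by omega]
    nlinarith [Nat.mul_le_mul_left ((n + 4) * (n + 5) ^ 2) hge]

theorem bound_pred (h : Nice ρ) (h3 : (3 : F) ≠ 0) (hq : 5 ≤ Fintype.card F) :
    Fintype.card F ^ 3 - 1 ≤ finrank ℂ V := by
  rcases ne3_cases h h3 hq with hb | hs
  · omega
  · rw [hs.dim]
    have := hs.d10 1 one_ne_zero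
    set a := d ρ [(10, (1 : F)), (6, (0 : F)), (11, 0)]
    obtain ⟨n, hn⟩ : ∃ n, Fintype.card F = n + 1 := ⟨Fintype.card F - 1, by omega⟩
    rw [hn, Nat.add_sub_cancel, Nat.sub_le_iff_le_add]
    nlinarith [Nat.mul_le_mul_left n this]

/-- The multiplicities for degree at most `q ^ 3`. -/
theorem Small.tight (hs : Small ρ) (hq : 5 ≤ Fintype.card F) (hk : finrank ℂ V ≤ Fintype.card F ^ 3) :
    (∀ c : F, c ≠ 0 → d ρ [(10, c), (6, (0 : F)), (11, 0)] = 1) ∧
      d ρ [(10, (0 : F)), (6, 0), (11, 0)] ≤ 1 := by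
  have hdim := hs.dim
  have hp := hs.d10 1 one_ne_zero
  set a := d ρ [(10, (1 : F)), (6, (0 : F)), (11, 0)] with ha
  obtain ⟨n, hn⟩ : ∃ n, Fintype.card F = n + 1 := ⟨Fintype.card F - 1, by omega⟩
  rw [hn, Nat.add_sub_cancel] at hdim
  rw [hn] at hk
  have ha1 : a = 1 := by
    by_contra hne
    have h2 : 2 ≤ a := by omega
    nlinarith [Nat.mul_le_mul_left n h2]
  refine ⟨fun c hc => (hs.d10c c 1 hc one_ne_zero).trans ha1, ?_⟩
  rw [ha1] at hdim
  nlinarith

end Cfsg.Agent.G2MinDeg
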