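import Cfsg.Agent.Lib.G2MinDeg.SLThree

/-!
# Representations of G₂(q), q ≡ 1 (mod 3): the degree is at least q³ + 1
-/

set_option autoImplicit false
set_option linter.unusedSectionVars false

namespace Cfsg.Agent.G2MinDeg

open Module Cfsg.Lie Cfsg.Lie.ChevalleyDatum Cfsg.Agent.Chev Cfsg.Agent.ChevBN Cfsg.Agent.MinRep
open scoped MatrixGroups

variable {F : Type*} [Field F] [Fintype F] {V : Type*} [AddCommGroup V] [Module ℂ V] [FiniteDimensional ℂ V]
  {ρ : Representation ℂ (GG F) V}

theorem orbit_span_stable {G : Type*} [Group G] {W : Type*} [AddCommGroup W] [Module ℂ W]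
    (σ : Representation ℂ G W) (u : W) (g : G) :
    ∀ v ∈ Submodule.span ℂ (Set.range fun g : G => σ g u), σ g v ∈ Submodule.span ℂ (Set.range fun g : G => σ g u) :=
  fun v hv => by
  have : Submodule.span ℂ (Set.range fun g : G => σ g u) ≤
      (Submodule.span ℂ (Set.range fun g : G => σ g u)).comap (σ g) := by
    rw [Submodule.span_le]
    rintro _ ⟨g', rfl⟩
    exact Submodule.subset_span ⟨g * g', rmul σ g g' u⟩
  exact this hv

theorem mem_orbit_span {G : Type*} [Group G] {W : Type*} [AddCommGroup W] [Module ℂ W]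
    (σ : Representation ℂ G W) (u : W) : u ∈ Submodule.span ℂ (Set.range fun g : G => σ g u) :=
  Submodule.subset_span ⟨1, by show σ 1 u = u; rw [map_one]; rfl⟩

theorem exists_omega (h : Fintype.card F % 3 = 1) : ∃ w : F, w ≠ 1 ∧ w ^ 3 = 1 := by
  classical
  have hF := Fintype.one_lt_card (α := F)
  have : Fact (Nat.Prime 3) := ⟨by norm_num⟩
  have hd : 3 ∣ Fintype.card Fˣ := by
    rw [Fintype.card_units]
    omega
  obtain ⟨u, hu⟩ := exists_prime_orderOf_dvd_card 3 hd
  refine ⟨u, fun e => ?_, ?_⟩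
  · have : u = 1 := Units.ext e
    simp [this] at hu
  · have := pow_orderOf_eq_one u
    rw [hu] at this
    rw [← Units.val_pow_eq_pow_val, this, Units.val_one]

theorem mem_Ev_sigma {i j : Fin 3} (h : i ≠ j) {c : F} {v : V} :
    v ∈ Ev (sigma ρ) (tv h) c ↔ v ∈ Ev ρ (X (ChevG2SL3.rootOf i j)) c := by
  simp only [mem_Ev, sigma_tv]

/-- The span of an orbit inside a line of eigenvectors is proper. -/
theorem span_ne_top (hn : Nice ρ) (hmod : Fintype.card F % 3 = 1) {u : V}
    (hu : u ∈ J ρ [(10, (1 : F)), (6, 0), (11, 0)])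
    (hline : ∀ w ∈ J ρ [(10, (1 : F)), (6, 0), (11, 0)], ∃ a : ℂ, a • u = w) :
    Submodule.span ℂ (Set.range fun g : SL(3, F) => sigma ρ g u) ≠ ⊤ := by
  intro htop
  obtain ⟨w, hw1, hw3⟩ := exists_omega hmod
  let z : SL(3, F) := ⟨Matrix.scalar (Fin 3) w, by simp [Matrix.det_diagonal, hw3]⟩
  have hz : ∀ g : SL(3, F), z * g = g * z := fun g => Subtype.ext
    ((Matrix.scalar_commute w (fun r => mul_comm w r) g.1).eq)
  have hzP : sigma ρ z u ∈ J ρ [(10, (1 : F)), (6, 0), (11, 0)] := by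
    rw [mem_J]
    intro p hp
    have hl : p.1 ∈ longs := by
      simp only [List.mem_cons, List.not_mem_nil, or_false] at hp
      rcases hp with rfl | rfl | rfl <;> simp [longs]
    obtain ⟨i, j, hij, e⟩ := longs_pairs _ hl
    have hpu := mem_J.1 hu p hp
    rw [← e] at hpu ⊢
    rw [← mem_Ev_sigma hij] at hpu ⊢
    intro t
    rw [← rmul, ← hz, rmul, hpu t, map_smul]
  obtain ⟨a, ha⟩ := hline _ hzP
  have hscal : ∀ v : V, sigma ρ z v = a • v := by
    intro v
    have hv : v ∈ Submodule.span ℂ (Set.range fun g : SL(3, F) => sigma ρ g u) := htop ▸ Submodule.mem_top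
    induction hv using Submodule.span_induction with
    | mem x hx =>
      obtain ⟨g, rfl⟩ := hx
      show sigma ρ z (sigma ρ g u) = a • sigma ρ g u
      rw [← rmul, hz, rmul, ← ha, map_smul]
    | zero => simp
    | add x y _ _ hx hy => rw [map_add, hx, hy, smul_add]
    | smul c x _ hx => rw [map_smul, hx, smul_comm]
  have hcen : ∀ h : GG F, Commute (G2Oct.slThree z) h := fun h => by
    refine mul_inv_eq_one.1 (hn.faith _ (LinearMap.ext fun v => ?_))
    have hsc : ∀ x : V, ρ (G2Oct.slThree z) x = a • x := hscal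
    have key : ∀ x, ρ (G2Oct.slThree z * h) x = ρ (h * G2Oct.slThree z) x := fun x => by
      rw [rmul, rmul, hsc, hsc, map_smul]
    rw [rmul, key, rinv', Module.End.one_apply]
  have h1 := G2Oct.slThree_injective ((hn.center _ hcen).trans (map_one _).symm)
  have h2 := congrFun (congrFun (congrArg Subtype.val h1) 0) 0
  simp [z] at h2
  exact hw1 h2

/-- The span of an orbit inside a line of eigenvectors is irreducible. -/
theorem span_irreducible (H : Herm ρ) {u : V} (hu : u ∈ J ρ [(10, (1 : F)), (6, 0), (11, 0)]) (hu0 : u ≠ 0)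
    (hline : ∀ w ∈ J ρ [(10, (1 : F)), (6, 0), (11, 0)], ∃ a : ℂ, a • u = w)
    (hYst : Stab ρ (Submodule.span ℂ (Set.range fun g : SL(3, F) => sigma ρ g u)))
    (huY : u ∈ Submodule.span ℂ (Set.range fun g : SL(3, F) => sigma ρ g u)) :
    (Subrepresentation.toRepresentation (ρ := sigma ρ)
      ⟨Submodule.span ℂ (Set.range fun g : SL(3, F) => sigma ρ g u), fun g v hv => hYst g v hv⟩).IsIrreducible := by
  set Y : Submodule ℂ V := Submodule.span ℂ (Set.range fun g : SL(3, F) => sigma ρ g u) with hY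
  let Ys : Subrepresentation (sigma ρ) := ⟨Y, fun g v hv => hYst g v hv⟩
  show Ys.toRepresentation.IsIrreducible
  have hne : Ys.toSubmodule ≠ ⊥ := fun e => hu0 (by
    have h : u ∈ Ys.toSubmodule := huY
    rw [e] at h
    simpa using h)
  refine
    { exists_pair_ne := ⟨⊥, ⊤, fun e => hne ?_⟩
      eq_bot_or_eq_top := fun S => ?_ }
  · have h : (⊥ : Submodule ℂ Ys.toSubmodule) = ⊤ := congrArg Subrepresentation.toSubmodule e
    refine (Submodule.eq_bot_iff _).2 fun v hv => ?_
    have hv' : (⟨v, hv⟩ : Ys.toSubmodule) ∈ (⊥ : Submodule ℂ Ys.toSubmodule) := by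
      rw [h]; exact Submodule.mem_top
    exact congrArg Subtype.val (Submodule.mem_bot ℂ |>.1 hv')
  · set S' := S.toSubmodule.map Ys.toSubmodule.subtype with hS'
    have hS'Y : S' ≤ Y := Submodule.map_subtype_le _ _
    have hS'st : Stab ρ S' := by
      rintro g _ ⟨v, hv, rfl⟩
      exact ⟨_, S.apply_mem_toSubmodule g hv, rfl⟩
    obtain ⟨z, hz, z', hz', hzz⟩ := Submodule.mem_sup.1 (show u ∈ S' ⊔ orthSub H S' by
      rw [sup_orth]; exact Submodule.mem_top)
    have hzP : z ∈ J ρ [(10, (1 : F)), (6, 0), (11, 0)] := by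
      rw [mem_J]
      intro p hp t
      have hl : p.1 ∈ longs := by
        simp only [List.mem_cons, List.not_mem_nil, or_false] at hp
        rcases hp with rfl | rfl | rfl <;> simp [longs]
      have h1 := mem_J.1 hu p hp t
      rw [← hzz, map_add, smul_add] at h1
      have hOst : Stab ρ (orthSub H S') := fun g v hv => orth_stable H (g := G2Oct.slThree g) (fun w hw => by
        rw [← map_inv]; exact hS'st g⁻¹ w hw) hv
      have h2 : ρ (X p.1 t) z - psi F (p.2 * t) • z = psi F (p.2 * t) • z' - ρ (X p.1 t) z' := by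
        rw [sub_eq_sub_iff_add_eq_add, h1]; abel
      refine sub_eq_zero.1 (Submodule.disjoint_def.1 (disjoint_orth H S') _
        (S'.sub_mem (stab_X hS'st hl t hz) (S'.smul_mem _ hz)) ?_)
      rw [h2]
      exact Submodule.sub_mem _ (Submodule.smul_mem _ _ hz') (stab_X hOst hl t hz')
    obtain ⟨a, ha⟩ := hline z hzP
    rcases eq_or_ne a 0 with rfl | ha0
    · left
      have hu' : u ∈ orthSub H S' := by
        rw [zero_smul] at ha
        rw [← hzz, ← ha, zero_add]; exact hz'
      have hYO : Y ≤ orthSub H S' := by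
        rw [hY, Submodule.span_le]
        rintro _ ⟨g, rfl⟩
        exact orth_stable H (g := G2Oct.slThree g) (fun w hw => by
          rw [← map_inv]; exact hS'st g⁻¹ w hw) hu'
      have hS0 : S' = ⊥ := (disjoint_orth H S').eq_bot_of_le (hS'Y.trans hYO)
      refine Subrepresentation.toSubmodule_injective ?_
      exact Submodule.map_injective_of_injective (Submodule.injective_subtype _)
        (hS0.trans (Submodule.map_bot _).symm)
    · right
      have hu' : u ∈ S' := by
        rw [← inv_smul_smul₀ ha0 u, ha]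
        exact S'.smul_mem _ hz
      have hYS : Y ≤ S' := by
        rw [hY, Submodule.span_le]
        rintro _ ⟨g, rfl⟩
        exact hS'st g u hu'
      refine Subrepresentation.toSubmodule_injective ?_
      exact Submodule.map_injective_of_injective (Submodule.injective_subtype _)
        ((le_antisymm hS'Y hYS).trans (Submodule.map_subtype_top _).symm)

/-- The class of a transvection excludes a stable irreducible subspace with a fixed line. -/
theorem class_contra {Y : Submodule ℂ V} (hYst : Stab ρ Y)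
    (hirr : (Subrepresentation.toRepresentation (ρ := sigma ρ) ⟨Y, fun g v hv => hYst g v hv⟩).IsIrreducible)
    (hq : 5 ≤ Fintype.card F) {j : ℕ} (hjpos : 1 ≤ j) (hjq : j + 1 ≤ Fintype.card F)
    (hj : finrank ℂ ↥(Y ⊓ J ρ [(6, (0 : F)), (11, (1 : F))]) = j)
    (hK : finrank ℂ ↥(Y ⊓ J ρ [(6, (0 : F)), (11, (0 : F))]) = Fintype.card F) : False := by
  classical
  obtain ⟨dY1, dY2, dY3⟩ := stab_dims hYst
  rw [hj] at dY1 dY2 dY3
  let Ys : Subrepresentation (sigma ρ) := ⟨Y, fun g v hv => hYst g v hv⟩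
  have : Ys.toRepresentation.IsIrreducible := hirr
  have h12 : (1 : Fin 3) ≠ 2 := by decide
  have hev : ∀ c : F, finrank ℂ ↥(Ev Ys.toRepresentation (tv h12) c) = finrank ℂ ↥(Y ⊓ J ρ [(11, c)]) := by
    intro c
    rw [← Submodule.finrank_map_subtype_eq Ys.toSubmodule (Ev Ys.toRepresentation (tv h12) c)]
    refine congrArg (fun W : Submodule ℂ V => finrank ℂ W) ?_
    have hroot : ChevG2SL3.rootOf 1 2 = 11 := by decide +kernel
    ext v
    constructor
    · rintro ⟨w, hw, rfl⟩
      refine ⟨w.2, ?_⟩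
      simp only [SetLike.mem_coe, mem_J_cons, mem_J_nil, and_true]
      rw [← hroot, ← mem_Ev_sigma h12]
      exact fun t => congrArg Subtype.val (hw t)
    · rintro ⟨hv, hv'⟩
      simp only [SetLike.mem_coe, mem_J_cons, mem_J_nil, and_true] at hv'
      rw [← hroot, ← mem_Ev_sigma h12] at hv'
      exact ⟨⟨v, hv⟩, fun t => Subtype.ext (hv' t), rfl⟩
  have hchar := trace_one_eq (ρ := Ys.toRepresentation) (tv_add h12) fun c hc => (hev c).trans (dY1 c hc)
  rw [hev, dY2, hK] at hchar
  have hdim : finrank ℂ ↥Ys.toSubmodule = Fintype.card F + (Fintype.card F ^ 2 - 1) * j := by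
    show finrank ℂ Y = _
    rw [dY3, dY2, hK]
    obtain ⟨n, hn'⟩ : ∃ n, Fintype.card F = n + 1 := ⟨Fintype.card F - 1, by omega⟩
    rw [hn', show (n + 1) ^ 2 - 1 = n * (n + 2) from Nat.sub_eq_of_eq_add (by ring), Nat.add_sub_cancel]
    ring
  have hint := Cfsg.Agent.Char.isIntegral_classSize_mul_div Ys.toRepresentation (tv h12 (1 : F))
  rw [hchar, hdim] at hint
  have hval : ((Fintype.card F + (Fintype.card F - 1) * j : ℕ) : ℂ) - ((Fintype.card F * j : ℕ) : ℂ) =
      ((Fintype.card F - j : ℕ) : ℂ) := by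
    rw [Nat.cast_sub (show j ≤ Fintype.card F by omega)]
    push_cast [Nat.cast_sub (show 1 ≤ Fintype.card F by omega)]
    ring
  rw [hval, ← Nat.cast_mul] at hint
  have hdvd := Cfsg.Agent.Char.nat_dvd_of_isIntegral_div (Nat.add_pos_left (by omega) _).ne' hint
  exact arith_sl3 (by omega) hjpos hjq (hdvd.trans (Nat.mul_dvd_mul_right index_dvd _))


theorem bound_succ (hn : Nice ρ) (h3 : (3 : F) ≠ 0) (hmod : Fintype.card F % 3 = 1) (hq : 5 ≤ Fintype.card F) :
    Fintype.card F ^ 3 + 1 ≤ finrank ℂ V := by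
  classical
  by_contra hcon
  have hs : Small ρ := (ne3_cases hn h3 hq).resolve_left hcon
  obtain ⟨hd10, hK0⟩ := hs.tight hq (by omega)
  obtain ⟨H⟩ := exists_herm ρ
  set P := J ρ [(10, (1 : F)), (6, 0), (11, 0)] with hP
  obtain ⟨u, hu, hu0⟩ := exists_mem_of_pos (W := P) (by rw [hP]; have := hd10 1 one_ne_zero; simp only [d] at this; omega)
  set Y : Submodule ℂ V := Submodule.span ℂ (Set.range fun g : SL(3, F) => sigma ρ g u) with hY
  have hYst : Stab ρ Y := orbit_span_stable (sigma ρ) u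
  have huY : u ∈ Y := mem_orbit_span (sigma ρ) u
  -- the line `P`
  have hline : ∀ w ∈ P, ∃ a : ℂ, a • u = w := fun w hw => by
    obtain ⟨v0, hv0⟩ := finrank_le_one_iff.1 (le_of_eq (hd10 1 one_ne_zero))
    obtain ⟨a, ha⟩ := hv0 ⟨u, hu⟩
    obtain ⟨b, hb⟩ := hv0 ⟨w, hw⟩
    have ea : a • (v0 : V) = u := congrArg Subtype.val ha
    have eb : b • (v0 : V) = w := congrArg Subtype.val hb
    have ha0 : a ≠ 0 := fun e => hu0 (by rw [← ea, e, zero_smul])
    exact ⟨b / a, by rw [← ea, smul_smul, div_mul_cancel₀ _ ha0, eb]⟩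
  -- `Y` is not everything
  have hYtop : Y ≠ ⊤ := span_ne_top hn hmod hu hline
  set Z := orthSub H Y with hZ
  have hZst : Stab ρ Z := fun g v hv => orth_stable H (g := G2Oct.slThree g) (fun w hw => by
    rw [← map_inv]; exact hYst g⁻¹ w hw) hv
  obtain ⟨dY1, dY2, dY3⟩ := stab_dims hYst
  set j := finrank ℂ ↥(Y ⊓ J ρ [(6, (0 : F)), (11, (1 : F))]) with hj
  set kY := finrank ℂ ↥(Y ⊓ J ρ [(6, (0 : F)), (11, (0 : F))]) with hkY
  -- `j` is positive
  have hjpos : 1 ≤ j := by
    by_contra hj0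
    rw [Nat.not_le, Nat.lt_one_iff] at hj0
    have hle : Y ⊓ J ρ [(11, (0 : F))] = Y := Submodule.eq_of_le_of_finrank_le inf_le_left (by
      rw [dY3, dY2, hj0]; simp)
    have hfix : ∀ v ∈ Y, v ∈ Ev ρ (X 11) (0 : F) := fun v hv => by
      rw [← hle] at hv
      exact mem_J.1 hv.2 (11, 0) (by simp)
    have h10 := long_fixed hYst hfix 10 (by simp [longs]) u huY
    have h10' := mem_J.1 hu (10, 1) (by simp)
    exact one_ne_zero (psi_inj (c := (1 : F)) (d := 0) fun t =>
      smul_left_injective ℂ hu0 ((h10' t).symm.trans (h10 t)))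
  -- the orthogonal complement takes part of the multiplicity
  have hjq : j + 1 ≤ Fintype.card F := by
    have hZpos : Z ≠ ⊥ := fun e => hYtop (by rw [← sup_orth H Y, ← hZ, e, sup_bot_eq])
    have hj' : 0 < finrank ℂ ↥(Z ⊓ J ρ [(6, (0 : F)), (11, (1 : F))]) := by
      by_contra h0
      rw [Nat.not_lt, Nat.le_zero] at h0
      obtain ⟨z1, z2, z3⟩ := stab_dims hZst
      have hle : Z ⊓ J ρ [(11, (0 : F))] = Z := Submodule.eq_of_le_of_finrank_le inf_le_left (by
        rw [z3, z2, h0]; simp)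
      refine hZpos (not_all_fixed hZst hn hq hK0 fun v hv => ?_)
      rw [← hle] at hv
      exact mem_J.1 hv.2 (11, 0) (by simp)
    have hsum := Submodule.finrank_sup_add_finrank_inf_eq (Y ⊓ J ρ [(6, (0 : F)), (11, (1 : F))])
      (Z ⊓ J ρ [(6, (0 : F)), (11, (1 : F))])
    have hbot : (Y ⊓ J ρ [(6, (0 : F)), (11, (1 : F))]) ⊓ (Z ⊓ J ρ [(6, (0 : F)), (11, (1 : F))]) = ⊥ :=
      (Disjoint.mono inf_le_left inf_le_left (disjoint_orth H Y)).eq_bot
    rw [hbot, finrank_bot, add_zero] at hsum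
    have hle := Submodule.finrank_mono (sup_le (inf_le_right (a := Y) (b := J ρ [(6, (0 : F)), (11, (1 : F))]))
      (inf_le_right (a := Z) (b := J ρ [(6, (0 : F)), (11, (1 : F))])))
    have := hs.d611 1 one_ne_zero
    simp only [d] at this
    omega
  -- the lines inside `Y`
  have hY10 : ∀ c : F, c ≠ 0 → finrank ℂ ↥(Y ⊓ J ρ [(10, c), (6, (0 : F)), (11, 0)]) = 1 := fun c hc => by
    refine le_antisymm ((Submodule.finrank_mono inf_le_right).trans_eq (hd10 c hc)) ?_
    refine Nat.one_le_iff_ne_zero.2 fun e => hu0 ?_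
    have hmem : ρ (Tor 6 c) u ∈ Y ⊓ J ρ [(10, c), (6, (0 : F)), (11, 0)] := by
      refine ⟨stab_Tor hYst (by simp [longs]) _ huY, ?_⟩
      rw [hP] at hu
      simp only [SetLike.mem_coe, mem_J_cons, mem_J_nil, and_true] at hu ⊢
      refine ⟨?_, ?_, ?_⟩
      · have := tor_mem (by norm_num) pairing_vals.2.1 hc hu.1
        rwa [zpow_neg_one, one_div, inv_inv] at this
      · simpa using tor_mem (by norm_num) pairing_vals.2.2.1 hc hu.2.1
      · simpa using tor_mem (by norm_num) pairing_vals.2.2.2.1 hc hu.2.2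
    rw [Submodule.finrank_eq_zero.1 e, Submodule.mem_bot] at hmem
    exact rinj ρ _ (hmem.trans (map_zero _).symm)
  have hK : kY = finrank ℂ ↥(Y ⊓ J ρ [(10, (0 : F)), (6, (0 : F)), (11, 0)]) + (Fintype.card F - 1) := by
    rw [hkY, split_W hYst (r := 10) (by simp [longs]) [(6, (0 : F)), (11, 0)] (fun t v hv => by
      simp only [mem_J_cons, mem_J_nil, and_true] at hv ⊢
      exact ⟨by simpa using move_10_6 (t := t) hv.1 hv.2, move_nil (by simp [nilP]) hv.2⟩),
      sum_zero_add (fun c : F => finrank ℂ ↥(Y ⊓ J ρ [(10, c), (6, (0 : F)), (11, 0)])) hY10, mul_one]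
  have hK0Y : finrank ℂ ↥(Y ⊓ J ρ [(10, (0 : F)), (6, (0 : F)), (11, 0)]) ≤ 1 :=
    (Submodule.finrank_mono inf_le_right).trans hK0
  rcases Nat.le_one_iff_eq_zero_or_eq_one.1 hK0Y with h0 | h1
  · -- no fixed line
    have hb := orth_bound H hYst (Submodule.finrank_eq_zero.1 h0)
    rw [← hkY, hK, h0, zero_add] at hb
    rw [dY2, hK, h0, zero_add] at dY3
    obtain ⟨n, hn'⟩ : ∃ n, Fintype.card F = n + 2 := ⟨Fintype.card F - 2, by omega⟩
    rw [dY3, hn', show n + 2 - 1 = n + 1 from by omega] at hb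
    rw [hn'] at hjq
    nlinarith [Nat.mul_le_mul_left ((n + 1) * (n + 3)) (show j ≤ n + 1 by omega)]
  · -- a fixed line: class sums
    let Ys : Subrepresentation (sigma ρ) := ⟨Y, fun g v hv => hYst g v hv⟩
    have : Ys.toRepresentation.IsIrreducible := span_irreducible H hu hu0 hline hYst huY
    exact class_contra hYst this hq hjpos hjq hj.symm (hK.trans (by rw [h1]; omega)) 

end Cfsg.Agent.G2MinDeg
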