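import Cfsg.Agent.Lib.G2MinDeg.LongSub
import Cfsg.Agent.Lib.GLOrder.Basic

/-!
# Representations of G₂(q) of degree at most q³ for q ≡ 1 (mod 3)

* `orth_bound`: a stable subspace without the fixed line is large.
* `index_dvd`: the class size of a transvection.
* `bound_succ`: `q³ + 1 ≤ dim`.
-/

set_option autoImplicit false
set_option linter.unusedSectionVars false

namespace Cfsg.Agent.G2MinDeg

open Module Cfsg.Lie Cfsg.Lie.ChevalleyDatum Cfsg.Agent.Chev Cfsg.Agent.ChevBN Cfsg.Agent.MinRep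
open scoped MatrixGroups

variable {F : Type*} [Field F] [Fintype F] {V : Type*} [AddCommGroup V] [Module ℂ V] [FiniteDimensional ℂ V]
  {ρ : Representation ℂ (GG F) V}

theorem X50_comm (s t : F) : Commute (X (F := F) 5 s) (X 0 t) := by
  have h := nilP_spec (0, 5) (by simp [nilP])
  have := X_comm (F := F) h.1 h.2.1 h.2.2.1 h.2.2.2.1 t s
  show _ = _
  simpa [ChevalleyDatum.commWord, h.2.2.2.2] using this

/-- A stable subspace whose part fixed by `X 6, X 11` has no vector fixed by `X 10` is large. -/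
theorem orth_bound (H : Herm ρ) {W : Submodule ℂ V} (hW : Stab ρ W)
    (h0 : W ⊓ J ρ [(10, (0 : F)), (6, 0), (11, 0)] = ⊥) :
    (Fintype.card F ^ 2 + 1) * finrank ℂ ↥(W ⊓ J ρ [(6, (0 : F)), (11, 0)]) ≤ finrank ℂ W := by
  classical
  set U := W ⊓ J ρ [(6, (0 : F)), (11, 0)] with hU
  have hUW : ∀ v ∈ U, v ∈ W := fun v hv => hv.1
  have hU6 : ∀ v ∈ U, v ∈ Ev ρ (X 6) (0 : F) := fun v hv => (mem_J.1 hv.2 (6, 0) (by simp))
  have hU11 : ∀ v ∈ U, v ∈ Ev ρ (X 11) (0 : F) := fun v hv => (mem_J.1 hv.2 (11, 0) (by simp))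
  have mkU : ∀ v, v ∈ W → v ∈ Ev ρ (X 6) (0 : F) → v ∈ Ev ρ (X 11) (0 : F) → v ∈ U := fun v a b c =>
    ⟨a, by simp [mem_J, b, c]⟩
  have x10add : ∀ s t, X 10 (s + t) = X 10 s * X (F := F) 10 t := X_add (by norm_num)
  have x1add : ∀ s t, X 1 (s + t) = X 1 s * X (F := F) 1 t := X_add (by norm_num)
  have st10 : ∀ t, ∀ w ∈ U, ρ (X 10 t) w ∈ U := fun t w hw => mkU _ (stab_X hW (by simp [longs]) t (hUW w hw))
    (by simpa using move_10_6 (t := t) (hU6 w hw) (hU11 w hw)) (move_nil (by simp [nilP]) (hU11 w hw))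
  have st1 : ∀ t, ∀ w ∈ U, ρ (X 1 t) w ∈ U := fun t w hw => mkU _ (stab_X hW (by simp [longs]) t (hUW w hw))
    (move_nil (by simp [nilP]) (hU6 w hw)) (by simpa using move_1_11 (t := t) (hU11 w hw) (hU6 w hw))
  have no10 : ∀ w ∈ U, w ∈ Ev ρ (X 10) (0 : F) → w = 0 := fun w hw h => by
    have : w ∈ W ⊓ J ρ [(10, (0 : F)), (6, 0), (11, 0)] :=
      ⟨hUW w hw, by simp [mem_J, h, hU6 w hw, hU11 w hw]⟩
    rwa [h0, Submodule.mem_bot] at this
  obtain ⟨r11, r106, -, r101, -, -, -, -, -⟩ := refl_table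
  have no1 : ∀ w ∈ U, w ∈ Ev ρ (X 1) (0 : F) → w = 0 := fun w hw h => by
    refine rinj ρ (Nr 10 1) ((no10 _ (mkU _ (stab_Nr hW (by simp [longs]) _ (hUW w hw)) ?_ ?_) ?_).trans
      (map_zero _).symm)
    · exact refl_mem_zero (by norm_num) (by norm_num) r11 one_ne_zero (hU11 w hw)
    · exact refl_mem_zero (by norm_num) (by norm_num) r106 one_ne_zero (hU6 w hw)
    · exact refl_mem_zero (by norm_num) (by norm_num) r101 one_ne_zero h
  obtain ⟨q10, q5, q10', q1'⟩ : Chev.refl chevG2 6 11 = 10 ∧ Chev.refl chevG2 6 6 = 5 ∧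
      Chev.refl chevG2 6 0 = 1 ∧ Chev.refl chevG2 6 1 = 0 := by decide +kernel
  have r116 : Chev.refl chevG2 11 6 = 1 := by decide +kernel
  have n10 : ∀ (a : F), a ≠ 0 → ∀ w ∈ U, ρ (Nr 6 a) w ∈ Ev ρ (X 10) (0 : F) ∧ ρ (Nr 6 a) w ∈ Ev ρ (X 5) (0 : F) :=
    fun a ha w hw => ⟨refl_mem_zero (by norm_num) (by norm_num) q10 ha (hU11 w hw),
      refl_mem_zero (by norm_num) (by norm_num) q5 ha (hU6 w hw)⟩
  -- orthogonality to a translate by `X 5 s * X 0 t`
  have key : ∀ s t : F, ¬(s = 0 ∧ t = 0) → ∀ w ∈ U, ∀ w' ∈ U, H.B w (ρ (X 5 s) (ρ (X 0 t) w')) = 0 := by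
    intro s t hst w hw w' hw'
    rcases eq_or_ne s 0 with rfl | hs
    · have ht : t ≠ 0 := fun e => hst ⟨rfl, e⟩
      set a := -t⁻¹ with ha
      have ha0 : a ≠ 0 := by simp [ha, ht]
      have e : X 0 t = X 11 (-a) * Nr 11 a * X 11 (-a) := by
        simp only [Nr, neg_vals.2.2.2]
        rw [show -a⁻¹ = t by simp [ha], ← X_inv]
        group
      rw [X_zero, map_one, Module.End.one_apply, e, rmul, rmul,
        (mem_Ev_zero ρ).1 (hU11 w' hw') (-a), H.inv_right, X_inv, neg_neg, (mem_Ev_zero ρ).1 (hU11 w hw) a]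
      exact orth_fixed H x1add st1 no1 hw (refl_mem_zero (by norm_num) (by norm_num) r116 ha0 (hU6 w' hw'))
    · set a := -s⁻¹ with ha
      have ha0 : a ≠ 0 := by simp [ha, hs]
      have e : X 5 s = X 6 (-a) * Nr 6 a * X 6 (-a) := by
        simp only [Nr, neg_vals.1]
        rw [show -a⁻¹ = s by simp [ha], ← X_inv]
        group
      have e06 : chevG2.commTerms 0 6 = [(1, 1, 1, 1)] := by decide +kernel
      have ec := congrArg (fun g => ρ g w') (X_comm (F := F) (r := 0) (s := 6) (by norm_num) (by norm_num)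
        (by norm_num) (by decide +kernel) t (-a))
      simp [ChevalleyDatum.commWord, e06] at ec
      set c := t * a with hc
      have hwc : ρ (X 1 c) w' ∈ U := st1 _ w' hw'
      have ec' : ρ (X 6 (-a)) (ρ (X 0 t) w') = ρ (X 0 t) (ρ (X 1 c) w') := by
        rw [ec, (mem_Ev_zero ρ).1 (hU6 _ hwc) (-a)]
      obtain ⟨η0, -, g0⟩ := Nr_conj (F := F) (r := 6) (s := 0) (by norm_num) (by norm_num) ha0
      obtain ⟨η1, -, g1⟩ := Nr_conj (F := F) (r := 6) (s := 1) (by norm_num) (by norm_num) ha0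
      rw [e, rmul, rmul, ec', ← rmul ρ (Nr 6 a), g0, q10', rmul, ← rmul ρ (Nr 6 a), g1, q1', rmul,
        H.inv_right, X_inv, neg_neg, (mem_Ev_zero ρ).1 (hU6 w hw) a, H.inv_right, X_inv]
      obtain ⟨h10, h5⟩ := n10 a ha0 w' hw'
      exact orth_fixed H x10add st10 no10 (st1 _ w hw)
        (by simpa using move_0_10 (t := η1 * c) h10 h5)
  have keyNone : ∀ s t : F, ∀ w ∈ U, ∀ w' ∈ U, H.B (ρ (Nr 6 1) w) (ρ (X 5 s) (ρ (X 0 t) w')) = 0 := by
    intro s t w hw w' hw'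
    obtain ⟨h10, h5⟩ := n10 1 one_ne_zero w hw
    rw [H.inv_right, X_inv, (mem_Ev_zero ρ).1 h5 (-s), H.inv_right, X_inv, ← H.symm,
      orth_fixed H x10add st10 no10 hw' (by simpa using move_0_10 (t := -t) h10 h5), map_zero]
  let gel : Option (F × F) → GG F := fun o => o.elim (Nr 6 1) fun p => X 5 p.1 * X 0 p.2
  have hsum := sum_finrank_orth_le H (fun o => U.map (ρ (gel o))) (W := W) ?_ ?_
  · have hdim : ∀ o, finrank ℂ ↥(U.map (ρ (gel o))) = finrank ℂ U := fun o =>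
      (Submodule.equivMapOfInjective _ (rinj ρ _) U).finrank_eq.symm
    rw [Finset.sum_congr rfl fun o _ => hdim o, Finset.sum_const, Finset.card_univ, Fintype.card_option,
      Fintype.card_prod, smul_eq_mul, ← sq] at hsum
    exact hsum
  · rintro (_ | ⟨s, t⟩) _ ⟨w, hw, rfl⟩
    · exact stab_Nr hW (by simp [longs]) _ (hUW w hw)
    · show ρ (X 5 s * X 0 t) w ∈ W
      rw [rmul]
      exact stab_X hW (by simp [longs]) _ (stab_X hW (by simp [longs]) _ (hUW w hw))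
  · rintro (_ | ⟨s, t⟩) (_ | ⟨s', t'⟩) hne _ ⟨w, hw, rfl⟩ _ ⟨w', hw', rfl⟩
    · exact absurd rfl hne
    · show H.B (ρ (Nr 6 1) w) (ρ (X 5 s' * X 0 t') w') = 0
      rw [rmul]
      exact keyNone s' t' w hw w' hw'
    · show H.B (ρ (X 5 s * X 0 t) w) (ρ (Nr 6 1) w') = 0
      rw [← H.symm, rmul, keyNone s t w' hw' w hw, map_zero]
    · show H.B (ρ (X 5 s * X 0 t) w) (ρ (X 5 s' * X 0 t') w') = 0
      have e : (X 5 s * X 0 t)⁻¹ * (X 5 s' * X 0 t') = X 5 (-s + s') * X (F := F) 0 (-t + t') := by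
        rw [mul_inv_rev, X_inv, X_inv, X_add (by norm_num), X_add (by norm_num), (X50_comm (-s) (-t)).symm.eq,
          mul_assoc, mul_assoc, ← mul_assoc (X 0 (-t)), (X50_comm s' (-t)).symm.eq, mul_assoc]
      rw [H.inv_left, ← rmul, e, rmul]
      refine key _ _ (fun h => hne ?_) w hw w' hw'
      have h1 : s = s' := by linear_combination -h.1
      have h2 : t = t' := by linear_combination -h.2
      rw [h1, h2]

/-- The flag stabiliser commuting with the transvection. -/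
def cenSub (F : Type*) [Field F] [Fintype F] : Subgroup SL(3, F) :=
  let S : Submonoid SL(3, F) :=
    { carrier := {g | g.1 0 1 = 0 ∧ g.1 2 0 = 0 ∧ g.1 2 1 = 0 ∧ g.1 1 1 = g.1 2 2}
      one_mem' := by simp
      mul_mem' := fun {g h} ⟨a1, a2, a3, a4⟩ ⟨b1, b2, b3, b4⟩ => by
        simp [Matrix.mul_apply, Fin.sum_univ_three, a1, a2, a3, a4, b1, b2, b3, b4] }
  { S with
    inv_mem' := fun {g} hg => by
      have : Finite SL(3, F) := inferInstance
      rw [show g⁻¹ = g ^ (orderOf g - 1) from inv_eq_of_mul_eq_one_right (by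
        rw [← pow_succ', Nat.sub_add_cancel (orderOf_pos g), pow_orderOf_eq_one])]
      exact S.pow_mem hg _ }

theorem mem_cenSub {g : SL(3, F)} :
    g ∈ cenSub F ↔ g.1 0 1 = 0 ∧ g.1 2 0 = 0 ∧ g.1 2 1 = 0 ∧ g.1 1 1 = g.1 2 2 := Iff.rfl

/-- Coordinates on `cenSub`. -/
def cenEquiv (F : Type*) [Field F] [Fintype F] : (F × F × F × Fˣ) ≃ cenSub F where
  toFun p := ⟨⟨!![((p.2.2.2⁻¹ : Fˣ) : F) ^ 2, 0, p.1; p.2.1, (p.2.2.2 : F), p.2.2.1; 0, 0, (p.2.2.2 : F)], by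
    simp [Matrix.det_fin_three]; field_simp⟩, mem_cenSub.2 (by simp)⟩
  invFun g := (g.1.1 0 2, g.1.1 1 0, g.1.1 1 2, Units.mk0 (g.1.1 1 1) fun e => by
    obtain ⟨a1, a2, a3, a4⟩ := mem_cenSub.1 g.2
    have := g.1.2
    rw [Matrix.det_fin_three, a1, a2, a3, ← a4, e] at this
    simp at this)
  left_inv p := by
    refine Prod.ext ?_ (Prod.ext ?_ (Prod.ext ?_ (Units.ext ?_))) <;> simp
  right_inv g := by
    obtain ⟨a1, a2, a3, a4⟩ := mem_cenSub.1 g.2
    have hdet := g.1.2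
    rw [Matrix.det_fin_three, a1, a2, a3, ← a4] at hdet
    have hne : g.1.1 1 1 ≠ 0 := fun e => by simp [e] at hdet
    refine Subtype.ext (Subtype.ext ?_)
    ext i j
    fin_cases i <;> fin_cases j <;> simp [a1, a2, a3, ← a4]
    field_simp
    linear_combination -hdet

theorem index_dvd :
    (Subgroup.centralizer ({tv (show (1 : Fin 3) ≠ 2 by decide) (1 : F)} : Set SL(3, F))).index ∣
      (Fintype.card F ^ 3 - 1) * (Fintype.card F + 1) := by
  set C := Subgroup.centralizer ({tv (show (1 : Fin 3) ≠ 2 by decide) (1 : F)} : Set SL(3, F)) with hC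
  have hle : cenSub F ≤ C := fun g hg => by
    obtain ⟨a1, a2, a3, a4⟩ := mem_cenSub.1 hg
    rw [hC, Subgroup.mem_centralizer_singleton_iff]
    refine Subtype.ext ?_
    show g.1 * Matrix.transvection 1 2 (1 : F) = Matrix.transvection 1 2 1 * g.1
    ext i j
    fin_cases i <;> fin_cases j <;>
      simp [Matrix.transvection, Matrix.mul_apply, Matrix.single_apply, Fin.sum_univ_three, a1, a2, a3, a4,
        add_comm]
  have h1 := Subgroup.card_dvd_of_le hle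
  rw [← Nat.card_congr (cenEquiv F), Nat.card_prod, Nat.card_prod, Nat.card_prod, Nat.card_units,
    Nat.card_eq_fintype_card (α := F)] at h1
  have h2 := Subgroup.index_mul_card C
  rw [GLOrder.card_SL, Nat.card_eq_fintype_card (α := F)] at h2
  simp [Finset.prod_Ico_succ_top] at h2
  obtain ⟨c, hc⟩ := h1
  obtain ⟨n, hn⟩ : ∃ n, Fintype.card F = n + 1 := ⟨Fintype.card F - 1, by have := Fintype.card_pos (α := F); omega⟩
  refine ⟨c, ?_⟩
  rw [hc, hn, Nat.add_sub_cancel, show (n + 1) ^ 2 - 1 = n * (n + 2) from Nat.sub_eq_of_eq_add (by ring),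
    show (n + 1) ^ 3 - 1 = n * (n ^ 2 + 3 * n + 3) from Nat.sub_eq_of_eq_add (by ring)] at h2
  rw [hn, show (n + 1) ^ 3 - 1 = n * (n ^ 2 + 3 * n + 3) from Nat.sub_eq_of_eq_add (by ring)]
  have hn0 : 0 < n := by
    have := Fintype.one_lt_card (α := F)
    omega
  refine Nat.eq_of_mul_eq_mul_left (show 0 < (n + 1) ^ 3 * n by positivity) ?_
  linarith [h2]

/-- The arithmetic of the class size. -/
theorem arith_sl3 {q j : ℕ} (hq : 2 ≤ q) (hj : 1 ≤ j) (hjq : j + 1 ≤ q) :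
    ¬ q + (q ^ 2 - 1) * j ∣ (q ^ 3 - 1) * (q + 1) * (q - j) := by
  intro h
  obtain ⟨r, hr⟩ : ∃ r, q = j + r + 1 := ⟨q - j - 1, by omega⟩
  have hq1 : 1 ≤ q ^ 2 := Nat.one_le_pow _ _ (by omega)
  have hq3 : 1 ≤ q ^ 3 := Nat.one_le_pow _ _ (by omega)
  have hZ : ((q + (q ^ 2 - 1) * j : ℕ) : ℤ) ∣ (((q ^ 3 - 1) * (q + 1) * (q - j) : ℕ) : ℤ) :=
    Int.natCast_dvd_natCast.2 h
  push_cast [hq1, hq3, Nat.cast_sub (show j ≤ q by omega)] at hZ
  set Q : ℤ := (q : ℤ) with hQ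
  set J : ℤ := (j : ℤ) with hJ
  set d : ℤ := Q + (Q ^ 2 - 1) * J with hd
  have cop : IsCoprime d (Q ^ 2 - 1) := by
    refine ⟨Q, -(1 + Q * J), ?_⟩
    rw [hd]; ring
  have h1 : d ∣ (Q ^ 2 + Q + 1) * (Q - J) := cop.dvd_of_dvd_mul_left
    (by rwa [show (Q ^ 2 - 1) * ((Q ^ 2 + Q + 1) * (Q - J)) = (Q ^ 3 - 1) * (Q + 1) * (Q - J) by ring])
  set e : ℤ := d - J * (Q ^ 2 + Q + 1) with he
  have h2 : d ∣ e * (Q - J) := by
    rw [he, sub_mul, mul_assoc]
    exact dvd_sub (dvd_mul_right d _) (h1.mul_left J)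
  have h3 : d ∣ (3 * J ^ 2 + 1) * (Q - J) := by
    have : (3 * J ^ 2 + 1) * (Q - J) =
        (1 - J) ^ 2 * ((Q ^ 2 + Q + 1) * (Q - J)) - (e + 3 * J + 1) * (e * (Q - J)) := by
      rw [he, hd]; ring
    rw [this]
    exact dvd_sub (h1.mul_left _) (h2.mul_left _)
  have hR : Q = J + r + 1 := by simp [hQ, hJ, hr]
  have hpos : 0 < (3 * J ^ 2 + 1) * (Q - J) := mul_pos (by positivity) (by rw [hR]; linarith [Int.natCast_nonneg r])
  have hlt : (3 * J ^ 2 + 1) * (Q - J) < d := by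
    have hJ1 : 1 ≤ J := by simp [hJ]; omega
    have : 0 < Q ^ 2 - 3 * J * Q + 3 * J ^ 2 := by nlinarith [sq_nonneg (2 * Q - 3 * J)]
    rw [hd]
    nlinarith
  exact absurd (Int.le_of_dvd hpos h3) (not_le.2 hlt)

end Cfsg.Agent.G2MinDeg
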