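import Cfsg.Agent.Lib.G2MinDeg.Moves
import Cfsg.Agent.Lib.MinRep.Chev
import Cfsg.Agent.Lib.ChevBN.ConnTables
import Cfsg.Agent.Lib.ChevBN.PerfectTables
import Cfsg.Agent.Lib.Twisted.GoodG2
import Cfsg.Agent.Lib.ChevInvolOdd.RankOne

/-!
# Representations of G₂(q): standing hypotheses and the first decomposition

* `Nice ρ`: no fixed vectors, faithful, the group has trivial centre; `nice_of_irreducible`.
* `dim_top`: `dim V = f + (q - 1) D`; `long_eq`: multiplicities of long root characters.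
-/

set_option autoImplicit false
set_option linter.unusedSectionVars false

namespace Cfsg.Agent.G2MinDeg

open Module Cfsg.Lie Cfsg.Lie.ChevalleyDatum Cfsg.Agent.Chev Cfsg.Agent.ChevBN Cfsg.Agent.MinRep
  Cfsg.Agent.G2Invol

variable {F : Type*} [Field F] [Fintype F] {V : Type*} [AddCommGroup V] [Module ℂ V]

/-- What is used of an irreducible representation of degree at least two. -/
structure Nice (ρ : Representation ℂ (GG F) V) : Prop where
  fixed : ∀ v, (∀ r < 12, v ∈ Ev ρ (X r) 0) → v = 0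
  faith : ∀ g, ρ g = 1 → g = 1
  center : ∀ g : GG F, (∀ h, Commute g h) → g = 1

theorem mem_of_fixed {ρ : Representation ℂ (GG F) V} {v : V} (h : ∀ r < 12, v ∈ Ev ρ (X r) 0) (g : GG F) :
    ρ g v = v := by
  obtain ⟨g, hg⟩ := g
  induction hg using Subgroup.closure_induction with
  | mem y hy =>
    obtain ⟨r, t, hy⟩ := hy
    have e : y = xg goodG F r.val t := Units.ext (by rw [hy, coe_xg, ChevalleyDatum.x, dif_pos r.isLt])
    subst e
    exact (mem_Ev_zero ρ).1 (h r.val (nroots_G2 ▸ r.isLt)) t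
  | one => exact congrArg (· v) (map_one ρ)
  | mul a b ha hb iha ihb =>
    have := congrArg (· v) (map_mul ρ (⟨a, ha⟩ : GG F) ⟨b, hb⟩)
    simp only [Module.End.mul_apply, ihb, iha] at this
    exact this
  | inv a ha iha =>
    conv_lhs => rw [← iha]
    exact rinv ρ (⟨a, ha⟩ : GG F) v

theorem nice_of_irreducible {k : ℕ} (ρ : Representation ℂ (GG F) (Fin k → ℂ)) (hρ : ρ.IsIrreducible) (hk : 2 ≤ k)
    (hF : ∃ a : F, a ≠ 0 ∧ a ≠ 1) : Nice ρ := by
  have hD := Cfsg.Agent.Twisted.good_chevG2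
  have hs := ChevBN.group_isSimple hD ChevBN.rootsG2 ChevBN.connG2 (by decide)
    (ChevBN.commutator_group_eq_top hD (Or.inr hF) (fun q hq => ⟨_, ChevBN.smallOK_G2 q hq⟩)
      hD.pairing_self)
  obtain ⟨hsimple, hcomm⟩ := hs
  have := hsimple
  refine ⟨fun v hv => ?_, fun g hg => ?_, fun g hg => ?_⟩
  · by_contra hv0
    let W : Subrepresentation ρ := ⟨ℂ ∙ v, fun g x hx => by
      obtain ⟨a, rfl⟩ := Submodule.mem_span_singleton.1 hx
      rw [map_smul, mem_of_fixed hv]
      exact Submodule.smul_mem _ _ (Submodule.mem_span_singleton_self v)⟩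
    have h1 : Module.finrank ℂ W.toSubmodule = 1 := finrank_span_singleton hv0
    rcases IsSimpleOrder.eq_bot_or_eq_top W with h | h
    · rw [h] at h1
      have h5 : Module.finrank ℂ ((⊥ : Subrepresentation ρ).toSubmodule) = 0 := finrank_bot ℂ _
      omega
    · rw [h] at h1
      have h5 : Module.finrank ℂ ((⊤ : Subrepresentation ρ).toSubmodule) = k :=
        (finrank_top ℂ (Fin k → ℂ)).trans (Module.finrank_fin_fun ℂ)
      omega
  · rcases Subgroup.Normal.eq_bot_or_eq_top (inferInstance : (MonoidHom.ker ρ).Normal) with h | h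
    · exact Subgroup.mem_bot.1 (h ▸ MonoidHom.mem_ker.2 hg)
    · obtain ⟨g', hg'⟩ := nontrivial_of_irreducible ρ hρ hk
      exact absurd (MonoidHom.mem_ker.1 (h ▸ Subgroup.mem_top g' : g' ∈ MonoidHom.ker ρ)) hg'
  · rcases Subgroup.Normal.eq_bot_or_eq_top (inferInstance : (Subgroup.center (GG F)).Normal) with h | h
    · exact Subgroup.mem_bot.1 (h ▸ Subgroup.mem_center_iff.2 fun x => ((hg x).symm.eq))
    · exact absurd (IsMulCommutative.mk ⟨fun a b =>
        ((Subgroup.mem_center_iff.1 (h ▸ Subgroup.mem_top b : b ∈ Subgroup.center (GG F))) a)⟩) hcomm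

/-- The dimension of a joint eigenspace. -/
noncomputable abbrev d (ρ : Representation ℂ (GG F) V) (L : List (ℕ × F)) : ℕ := finrank ℂ (J ρ L)

theorem sum_zero_add [DecidableEq F] (w : F → ℕ) {D : ℕ} (h : ∀ c ≠ 0, w c = D) :
    ∑ c, w c = w 0 + (Fintype.card F - 1) * D := by
  rw [← Finset.add_sum_erase _ _ (Finset.mem_univ 0), Finset.sum_congr rfl
    fun c hc => h c (Finset.ne_of_mem_erase hc), Finset.sum_const, Finset.card_erase_of_mem (Finset.mem_univ _),
    Finset.card_univ, smul_eq_mul]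

theorem exists_pow_ne {n : ℕ} (hn : 0 < n) (hq : n + 1 < Fintype.card F) : ∃ t : F, t ≠ 0 ∧ t ^ n ≠ 1 := by
  by_contra! h
  have hall : ∀ x : Fˣ, x ^ n = 1 := fun x => Units.ext (by simpa using h x x.ne_zero)
  have := Nat.le_of_dvd hn ((FiniteField.forall_pow_eq_one_iff F n).1 hall)
  omega

variable [FiniteDimensional ℂ V] {ρ : Representation ℂ (GG F) V}

theorem refl_le (L L' : List (ℕ × F)) (g : GG F) (h : ∀ v ∈ J ρ L, ρ g v ∈ J ρ L') : d ρ L ≤ d ρ L' :=
  finrank_le_of_maps g h

/-- All nontrivial characters of the long root subgroup have the same multiplicity. -/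
theorem d11_const {c c' : F} (hc : c ≠ 0) (hc' : c' ≠ 0) : d ρ [(11, c)] = d ρ [(11, c')] := by
  have key : ∀ c c' : F, c ≠ 0 → c' ≠ 0 → d ρ [(11, c)] ≤ d ρ [(11, c')] := fun c c' hc hc' => by
    refine refl_le _ _ (Tor 10 (c / c')) fun v hv => ?_
    simp only [mem_J_cons, mem_J_nil, and_true] at hv ⊢
    have := tor_mem (ρ := ρ) (by norm_num) pairing_vals.1 (div_ne_zero hc hc') hv
    rwa [zpow_one, show c / (c / c') = c' by field_simp] at this
  exact le_antisymm (key c c' hc hc') (key c' c hc' hc)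

theorem Nice.exists_D (h : Nice ρ) : 0 < d ρ [(11, (1 : F))] := by
  by_contra! h0
  have hx : ∀ s t, X 11 (s + t) = X 11 s * X (F := F) 11 t := X_add (by norm_num)
  have hfix : ρ (X 11 1) = 1 := LinearMap.ext fun v => by
    have e : ∀ c : F, c ≠ 0 → Pr ρ (X 11) c v = 0 := fun c hc => by
      by_contra hne
      have hmem : Pr ρ (X 11) c v ∈ J ρ [(11, c)] := by simpa using Pr_mem ρ hx c v
      have := finrank_pos_of_mem hmem hne
      have e2 := d11_const (ρ := ρ) hc one_ne_zero
      simp only [d] at e2 h0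
      omega
    have hv := sum_Pr ρ hx v
    rw [Finset.sum_eq_single (0 : F) (fun c _ hc => e c hc) (fun h => absurd (Finset.mem_univ _) h)] at hv
    have := Pr_mem ρ hx (0 : F) v
    rw [hv] at this
    exact (mem_Ev_zero ρ).1 this 1
  have h1 := congrArg Subtype.val (h.faith _ hfix)
  rw [coe_X] at h1
  refine one_ne_zero (ChevInvolOdd.xg_param_inj goodG (lt12 (r := 11) (by norm_num)) (h1.trans ?_))
  rw [xg_zero]
  rfl

/-- Decomposition along the long root subgroup. -/
theorem dim_top : finrank ℂ V = d ρ [(11, (0 : F))] + (Fintype.card F - 1) * d ρ [(11, (1 : F))] := by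
  classical
  rw [← sum_zero_add (fun c : F => d ρ [(11, c)]) fun c hc => d11_const hc one_ne_zero,
    ← finrank_top ℂ V, show (⊤ : Submodule ℂ V) = J ρ ([] : List (ℕ × F)) from rfl]
  exact split_J (by norm_num) _ fun _ _ _ => trivial

end Cfsg.Agent.G2MinDeg
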