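import Cfsg.Agent.Lib.G2MinDeg.Setup

/-!
# Representations of G₂(q), q a power of 3: multiplicities

* `Mplane`: the multiplicity of a character of the roots `8, 9, 11`; `Mplane_eta`, `Mplane_scale`.
* `Tight`: the multiplicities forced by a small degree; `three_cases`.
-/

set_option autoImplicit false
set_option linter.unusedSectionVars false

namespace Cfsg.Agent.G2MinDeg

open Module Cfsg.Lie Cfsg.Lie.ChevalleyDatum Cfsg.Agent.Chev Cfsg.Agent.ChevBN Cfsg.Agent.MinRep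

variable {F : Type*} [Field F] [Fintype F] {V : Type*} [AddCommGroup V] [Module ℂ V] [FiniteDimensional ℂ V]
  {ρ : Representation ℂ (GG F) V}

/-- The multiplicity of a character of the roots `8, 9, 11`. -/
noncomputable abbrev Mplane (ρ : Representation ℂ (GG F) V) (c e f : F) : ℕ := d ρ [(8, e), (9, f), (11, c)]

/-- The multiplicity of a character of the roots `6, 8, 9, 11`. -/
noncomputable abbrev Nplane (ρ : Representation ℂ (GG F) V) (b c e f : F) : ℕ :=
  d ρ [(6, b), (8, e), (9, f), (11, c)]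

theorem d_congr {L L' : List (ℕ × F)} (h : ∀ v, v ∈ J ρ L ↔ v ∈ J ρ L') : d ρ L = d ρ L' := by
  show finrank ℂ ↥(J ρ L) = _
  rw [SetLike.ext h]

theorem two_ne_zero_of_three (h3 : (3 : F) = 0) : (2 : F) ≠ 0 := fun h =>
  one_ne_zero (by linear_combination h3 - h : (1 : F) = 0)

theorem cube_surj (h3 : (3 : F) = 0) (x : F) : ∃ t : F, t ^ 3 = x := by
  refine Finite.surjective_of_injective (f := fun t : F => t ^ 3) (fun a b h => ?_) x
  have h' : (a - b) ^ 3 = 0 := by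
    have h'' : a ^ 3 = b ^ 3 := h
    linear_combination h'' + (a * b ^ 2 - a ^ 2 * b) * h3
  exact sub_eq_zero.1 (eq_zero_of_pow_eq_zero h')

theorem sum_plane [DecidableEq F] (w : F → F → ℕ) {M : ℕ} (h : ∀ e f, ¬(e = 0 ∧ f = 0) → w e f = M) :
    ∑ f, ∑ e, w e f = w 0 0 + (Fintype.card F ^ 2 - 1) * M := by
  rw [sum_zero_add (fun f => ∑ e, w e f) (D := Fintype.card F * M) fun f hf => by
    rw [Finset.sum_congr rfl fun e _ => h e f fun h' => hf h'.2, Finset.sum_const, Finset.card_univ, smul_eq_mul],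
    sum_zero_add (fun e => w e 0) fun e he => h e 0 fun h' => he h'.1]
  obtain ⟨n, hn⟩ : ∃ n, Fintype.card F = n + 1 := ⟨Fintype.card F - 1, by have := Fintype.card_pos (α := F); omega⟩
  rw [hn, Nat.add_sub_cancel, show (n + 1) ^ 2 - 1 = n * (n + 2) from Nat.sub_eq_of_eq_add (by ring)]
  ring

section Three

variable (h3 : (3 : F) = 0)
include h3

theorem move47 (c : F) :
    (∀ t f e : F, ∀ v ∈ J ρ [(8, e), (9, f), (11, c)],
      ρ (X 7 t) v ∈ J ρ [(8, e + 2 * f * t), (9, f), (11, c)]) ∧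
    (∀ t e f : F, ∀ v ∈ J ρ [(8, e), (9, f), (11, c)],
      ρ (X 4 t) v ∈ J ρ [(8, e), (9, f + 2 * e * t), (11, c)]) := by
  refine ⟨fun t f e v hv => ?_, fun t e f v hv => ?_⟩ <;> simp only [mem_J_cons, mem_J_nil, and_true] at hv ⊢
  · exact ⟨move_7_8 h3 hv.1 hv.2.1, move3_nil h3 (by simp) hv.2.1, move_nil (by simp [nilP]) hv.2.2⟩
  · exact ⟨move3_nil h3 (by simp) hv.1, move_4_9 h3 hv.2.1 hv.1, move_nil (by simp [nilP]) hv.2.2⟩

/-- The multiplicity does not depend on the nonzero pair. -/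
theorem Mplane_eta (c : F) {e f : F} (h : ¬(e = 0 ∧ f = 0)) : Mplane ρ c e f = Mplane ρ c 1 1 := by
  have h2 := two_ne_zero_of_three h3
  have inE : ∀ f : F, f ≠ 0 → ∀ e e', Mplane ρ c e f = Mplane ρ c e' f := fun f hf e e' =>
    shift_const (ρ := ρ) (fun e : F => J ρ [(8, e), (9, f), (11, c)]) (X 7) (mul_ne_zero h2 hf)
      (fun t e v hv => (move47 h3 c).1 t f e v hv) e e'
  have inF : ∀ e : F, e ≠ 0 → ∀ f f', Mplane ρ c e f = Mplane ρ c e f' := fun e he f f' =>
    shift_const (ρ := ρ) (fun f : F => J ρ [(8, e), (9, f), (11, c)]) (X 4) (mul_ne_zero h2 he)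
      (fun t f v hv => (move47 h3 c).2 t e f v hv) f f'
  rcases eq_or_ne f 0 with rfl | hf
  · have he : e ≠ 0 := fun he => h ⟨he, rfl⟩
    rw [inF e he 0 1, inE 1 one_ne_zero e 1]
  · rw [inE f hf e 1, inF 1 one_ne_zero f 1]

omit h3 in
theorem Mplane_scale {c c' : F} (hc : c ≠ 0) (hc' : c' ≠ 0) (e f : F) :
    Mplane ρ c e f ≤ Mplane ρ c' (e / (c / c')) f := by
  refine refl_le _ _ (Tor 6 (c / c')) fun v hv => ?_
  simp only [mem_J_cons, mem_J_nil, and_true] at hv ⊢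
  obtain ⟨-, -, -, p11, p8, p9, -⟩ := pairing_vals
  have ht := div_ne_zero hc hc'
  refine ⟨?_, ?_, ?_⟩
  · simpa using tor_mem (by norm_num) p8 ht hv.1
  · simpa using tor_mem (by norm_num) p9 ht hv.2.1
  · have := tor_mem (by norm_num) p11 ht hv.2.2
    rwa [zpow_one, show c / (c / c') = c' by field_simp] at this

omit h3 in
/-- The multiplicity is independent of the character of the root `6`. -/
theorem Mplane_eq_mul {c : F} (hc : c ≠ 0) (b e f : F) :
    Mplane ρ c e f = Fintype.card F * Nplane ρ b c e f := by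
  have s := split_J (ρ := ρ) (r := 6) (by norm_num) [(8, e), (9, f), (11, c)] (stable_nil _ (by simp [nilP]))
  have e1 : ∀ b' : F, Nplane ρ b' c e f = Nplane ρ b c e f := fun b' =>
    shift_const (ρ := ρ) (fun b' : F => J ρ [(6, b'), (8, e), (9, f), (11, c)]) (X 10) hc (fun t b' v hv => by
      simp only [mem_J_cons, mem_J_nil, and_true] at hv ⊢
      exact ⟨move_10_6 hv.1 hv.2.2.2, move_nil (by simp [nilP]) hv.2.1, move_nil (by simp [nilP]) hv.2.2.1,
        move_nil (by simp [nilP]) hv.2.2.2⟩) b' b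
  show d ρ _ = _
  rw [d, s, Finset.sum_congr rfl fun b' _ => e1 b', Finset.sum_const, Finset.card_univ, smul_eq_mul]

theorem N_eta {c b e f : F} (hc : c ≠ 0) (h : ¬(e = 0 ∧ f = 0)) :
    Nplane ρ b c e f = Nplane ρ 0 1 1 1 := by
  refine Nat.eq_of_mul_eq_mul_left (Fintype.card_pos (α := F)) ?_
  rw [← Mplane_eq_mul hc, ← Mplane_eq_mul one_ne_zero, Mplane_eta h3 c h]
  have key : ∀ c c' : F, c ≠ 0 → c' ≠ 0 → Mplane ρ c 1 1 ≤ Mplane ρ c' 1 1 := fun c c' hc hc' =>
    (Mplane_scale hc hc' 1 1).trans_eq (Mplane_eta h3 c' fun h => one_ne_zero h.2)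
  exact le_antisymm (key c 1 hc one_ne_zero) (key 1 c one_ne_zero hc)

omit h3 in
theorem N_zero {c b : F} (hc : c ≠ 0) : Nplane ρ b c 0 0 = Nplane ρ 0 1 0 0 := by
  refine Nat.eq_of_mul_eq_mul_left (Fintype.card_pos (α := F)) ?_
  rw [← Mplane_eq_mul hc, ← Mplane_eq_mul one_ne_zero]
  have key : ∀ c c' : F, c ≠ 0 → c' ≠ 0 → Mplane ρ c 0 0 ≤ Mplane ρ c' 0 0 := fun c c' hc hc' => by
    simpa using Mplane_scale (ρ := ρ) hc hc' 0 0
  exact le_antisymm (key c 1 hc one_ne_zero) (key 1 c one_ne_zero hc)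

theorem d11_plane (c : F) :
    d ρ [(11, c)] = Mplane ρ c 0 0 + (Fintype.card F ^ 2 - 1) * Mplane ρ c 1 1 := by
  classical
  rw [← sum_plane (Mplane ρ c) fun e f h => Mplane_eta h3 c h]
  rw [d, split_J (ρ := ρ) (r := 9) (by norm_num) [(11, c)] (stable_nil _ (by simp [nilP]))]
  refine Finset.sum_congr rfl fun f _ => split_J (r := 8) (by norm_num) _ fun t v hv => ?_
  simp only [mem_J_cons, mem_J_nil, and_true] at hv ⊢
  exact ⟨move3_nil h3 (by simp) hv.1, move_nil (by simp [nilP]) hv.2⟩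

theorem d11_eq {c : F} (hc : c ≠ 0) : d ρ [(11, c)] =
    Fintype.card F * ((Fintype.card F ^ 2 - 1) * Nplane ρ 0 1 1 1 + Nplane ρ (0 : F) 1 0 0) := by
  rw [d11_plane h3, Mplane_eq_mul hc 0, Mplane_eq_mul hc 0, N_eta h3 hc (fun h => one_ne_zero h.1), N_zero hc]
  ring

/-- Some character nontrivial on the roots `8, 9` occurs. -/
theorem N_pos (hn : Nice ρ) (hq : 9 ≤ Fintype.card F) : 0 < Nplane ρ (0 : F) 1 1 1 := by
  classical
  by_contra hm
  rw [Nat.not_lt, Nat.le_zero] at hm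
  have hfix : ∀ c : F, c ≠ 0 → ∀ v ∈ Ev ρ (X 11) c, v ∈ Ev ρ (X 8) (0 : F) ∧ v ∈ Ev ρ (X 9) (0 : F) := by
    intro c hc v hv
    have hle : J ρ [(8, (0 : F)), (9, 0), (11, c)] ≤ J ρ [(11, c)] := fun w hw => by
      simp only [mem_J_cons, mem_J_nil, and_true] at hw ⊢
      exact hw.2.2
    have hvJ : v ∈ J ρ [(8, (0 : F)), (9, 0), (11, c)] := by
      rw [Submodule.eq_of_le_of_finrank_le hle ?_]
      · simpa using hv
      · show d ρ _ ≤ Mplane ρ c 0 0
        rw [d11_plane h3, Mplane_eq_mul hc 0 1 1, N_eta h3 hc (fun h => one_ne_zero h.1), hm]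
        simp
    simp only [mem_J_cons, mem_J_nil, and_true] at hvJ
    exact ⟨hvJ.1, hvJ.2.1⟩
  obtain ⟨e1, e2⟩ : Chev.refl chevG2 6 10 = 11 ∧ Chev.refl chevG2 6 8 = 7 := by decide +kernel
  have h7 : ∀ d : F, d ≠ 0 → ∀ w ∈ Ev ρ (X 10) d, w ∈ Ev ρ (X 7) (0 : F) := by
    intro d hd w hw
    obtain ⟨η, hη, g⟩ := refl_mem (ρ := ρ) (r := 6) (s := 10) (by norm_num) (by norm_num) (neg_ne_zero.2 (one_ne_zero (α := F)))
    have h11 := g hw
    rw [e1] at h11
    have := refl_mem_zero (r := 6) (by norm_num) (by norm_num) e2 one_ne_zero (hfix _ (div_ne_zero hd hη) _ h11).1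
    rwa [← Nr_inv, rinv'] at this
  obtain ⟨a, ha0, ha2⟩ := exists_pow_ne (F := F) (n := 2) (by norm_num) (by omega)
  have hpos : 0 < d ρ [(10, a), (11, (1 : F))] := by
    have s := split_J (ρ := ρ) (r := 10) (by norm_num) [(11, (1 : F))] (stable_nil _ (by simp [nilP]))
    have e : ∀ x : F, d ρ [(10, x), (11, (1 : F))] = d ρ [(10, a), (11, 1)] := fun x =>
      shift_const (ρ := ρ) (fun x : F => J ρ [(10, x), (11, (1 : F))]) (X 6) (neg_ne_zero.2 one_ne_zero)
        (fun t x v hv => by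
          simp only [mem_J_cons, mem_J_nil, and_true] at hv ⊢
          have := move_6_10 (t := t) hv.1 hv.2
          exact ⟨by rwa [show x + -1 * t = x - 1 * t by ring], move_nil (by simp [nilP]) hv.2⟩) x a
    have hD := hn.exists_D
    simp only [d] at e s hD ⊢
    rw [s, Finset.sum_congr rfl fun x _ => e x] at hD
    exact pos_of_mul_pos_right (by simpa using hD) (Nat.zero_le _)
  obtain ⟨v, hv, hv0⟩ := exists_mem_of_pos hpos
  simp only [mem_J_cons, mem_J_nil, and_true] at hv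
  obtain ⟨h8, h9⟩ := hfix 1 one_ne_zero v hv.2
  have hv7 := (mem_Ev_zero ρ).1 (h7 a ha0 v hv.1)
  have hw10 := move_6_10 (t := (1 : F)) hv.1 hv.2
  have hne : a - 1 * 1 ≠ 0 := fun e => ha2 (by linear_combination (a + 1) * e)
  have hw7 := (mem_Ev_zero ρ).1 (h7 _ hne _ hw10)
  have ct : chevG2.commTerms 7 6 = [(8, -1, 1, 1), (9, 1, 2, 1), (10, 1, 3, 1), (11, 1, 3, 2)] := by decide +kernel
  have hpsi : ∀ x : F, psi F (-(a + 1) * x) = psi F (0 * x) := by
    intro x
    obtain ⟨t, rfl⟩ := cube_surj h3 x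
    have := X_past (ρ := ρ) (r := 7) (s := 6) (by norm_num) (by norm_num) (by norm_num) (by decide +kernel)
      (fun r => if r = 10 then a else if r = 11 then 1 else 0) t 1 (v := v) (by simp [ct, h8, h9, hv.1, hv.2])
    rw [hv7, hw7] at this
    have hw0 : ρ (X 6 (1 : F)) v ≠ 0 := fun e => hv0 (rinj ρ _ (e.trans (map_zero _).symm))
    have h1 := smul_left_injective ℂ hw0 ((one_smul ℂ _).trans this)
    rw [zero_mul, AddChar.map_zero_eq_one, h1]
    congr 1
    simp [phase, ct]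
    ring
  exact ha2 (by linear_combination (1 - a) * psi_inj hpsi)

/-- The multiplicities for small degree. -/
structure Tight (ρ : Representation ℂ (GG F) V) : Prop where
  N1 : ∀ b c e f : F, c ≠ 0 → ¬(e = 0 ∧ f = 0) → Nplane ρ b c e f = 1
  small : finrank ℂ V ≤ Fintype.card F ^ 4 + Fintype.card F ^ 2

theorem three_cases (hn : Nice ρ) (hq : 9 ≤ Fintype.card F) :
    Fintype.card F ^ 4 + Fintype.card F ^ 2 + 1 ≤ finrank ℂ V ∨ Tight ρ := by
  have hm := N_pos h3 hn hq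
  by_cases hbig : Fintype.card F ^ 4 + Fintype.card F ^ 2 + 1 ≤ finrank ℂ V
  · exact Or.inl hbig
  right
  refine ⟨fun b c e f hc h => ?_, by omega⟩
  rw [N_eta h3 hc h]
  by_contra hne
  have h2 : 2 ≤ Nplane ρ (0 : F) 1 1 1 := by omega
  apply hbig
  rw [dim_top (ρ := ρ), d11_eq h3 one_ne_zero]
  obtain ⟨n, hn'⟩ : ∃ n, Fintype.card F = n + 9 := ⟨Fintype.card F - 9, by omega⟩
  rw [hn', show (n + 9) ^ 2 - 1 = (n + 8) * (n + 10) from Nat.sub_eq_of_eq_add (by ring),
    show n + 9 - 1 = n + 8 from by omega]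
  nlinarith [Nat.mul_le_mul_left ((n + 8) * (n + 9) * ((n + 8) * (n + 10))) h2,
    Nat.zero_le ((n + 8) * (n + 9) * Nplane ρ (0 : F) 1 0 0), Nat.zero_le (n ^ 4), Nat.zero_le (n ^ 3),
    Nat.zero_le (n ^ 2), Nat.zero_le n]

end Three

end Cfsg.Agent.G2MinDeg
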