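import Cfsg.Agent.Lib.G2MinDeg.ThreeCount
import Cfsg.Agent.Lib.Char.Integral
import Cfsg.Agent.Lib.G2Oct.Exist
import Cfsg.Agent.Lib.ChevOrder.Final
import Cfsg.Agent.Lib.ChevOrder.CardU
import Cfsg.Agent.Lib.GLOrder.Basic

/-!
# Representations of G₂(q), q a power of 3: the degree is at least q⁴ + q² + 1
-/

set_option autoImplicit false
set_option linter.unusedSectionVars false

namespace Cfsg.Agent.G2MinDeg

open Module Cfsg.Lie Cfsg.Lie.ChevalleyDatum Cfsg.Agent.Chev Cfsg.Agent.ChevBN Cfsg.Agent.MinRep Cfsg.Agent.G2Invol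
open scoped MatrixGroups

variable {F : Type*} [Field F] [Fintype F]

theorem X11_commute {r : ℕ} (hr : 6 ≤ r) (hr' : r < 12) (t : F) : Commute (X (F := F) r t) (X 11 1) := by
  rcases eq_or_ne r 11 with rfl | hne
  · show _ = _
    rw [← X_add hr', ← X_add hr', add_comm]
  · have hm : (11, r) ∈ nilP := by interval_cases r <;> simp_all [nilP]
    obtain ⟨h1, h2, h3, h4, h5⟩ := nilP_spec _ hm
    have := X_comm (F := F) h1 h2 h3 h4 1 t
    show _ = _
    simpa [ChevalleyDatum.commWord, h5] using this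

/-- The class size of a long root element divides `q⁶ - 1`. -/
theorem long_index_dvd :
    (Subgroup.centralizer ({X 11 1} : Set (GG F))).index ∣ Fintype.card F ^ 6 - 1 := by
  classical
  set C := Subgroup.centralizer ({X 11 1} : Set (GG F)) with hC
  have hD := Cfsg.Agent.Twisted.good_chevG2
  have hU : Fintype.card F ^ 6 ∣ Nat.card C := by
    have hle : chevG2.posUnipotent F ≤ chevG2.group F := by
      rw [ChevalleyDatum.posUnipotent, Subgroup.closure_le]
      rintro y ⟨r, t, hr, hy⟩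
      rw [show y = xg goodG F r t from Units.ext (hy.trans (coe_xg goodG r t).symm)]
      exact xg_mem_group goodG r t
    have hsub : (chevG2.posUnipotent F).subgroupOf (chevG2.group F) ≤ C := by
      intro g hg
      rw [hC, Subgroup.mem_centralizer_singleton_iff]
      have key : chevG2.posUnipotent F ≤ Subgroup.centralizer {((X 11 1 : GG F) : GL chevG2.Idx F)} := by
        rw [ChevalleyDatum.posUnipotent, Subgroup.closure_le]
        rintro y ⟨r, t, hr, hy⟩
        have hr2 : r < 12 := by have := hr.1; rwa [nroots_G2] at this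
        rw [show y = xg goodG F r t from Units.ext (hy.trans (coe_xg goodG r t).symm)]
        exact Subgroup.mem_centralizer_singleton_iff.2
          (congrArg Subtype.val (X11_commute ((pos_list r hr2).1 hr) hr2 t).eq)
      exact Subtype.ext (Subgroup.mem_centralizer_singleton_iff.1 (key hg))
    have := Subgroup.card_dvd_of_le hsub
    rwa [Nat.card_congr (Subgroup.subgroupOfEquivOfLe hle).toEquiv, ChevOrder.card_posUnipotent hD,
      Nat.card_eq_fintype_card, show chevG2.nroots / 2 = 6 by decide +kernel] at this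
  have hS : Fintype.card F ^ 2 - 1 ∣ Nat.card C := by
    have hle : (G2Oct.shortSL (F := F)).range ≤ C := by
      rintro _ ⟨A, rfl⟩
      rw [hC, Subgroup.mem_centralizer_singleton_iff]
      exact (G2Oct.commute_long A 1).symm.eq
    have := Subgroup.card_dvd_of_le hle
    rw [← Nat.card_congr (MonoidHom.ofInjective G2Oct.shortSL_injective).toEquiv, GLOrder.card_SL_two,
      Nat.card_eq_fintype_card] at this
    exact dvd_trans (dvd_mul_left _ _) this
  have hcop : (Fintype.card F ^ 6).Coprime (Fintype.card F ^ 2 - 1) := by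
    refine Nat.Coprime.pow_left 6 ?_
    have h1 : 1 ≤ Fintype.card F ^ 2 := Nat.one_le_pow _ _ Fintype.card_pos
    have h2 : (Fintype.card F ^ 2 - 1 + 1).Coprime (Fintype.card F ^ 2 - 1) := by simp
    rw [Nat.sub_add_cancel h1] at h2
    exact Nat.Coprime.coprime_dvd_left (dvd_pow_self _ two_ne_zero) h2
  obtain ⟨c, hc⟩ := hcop.mul_dvd_of_dvd_of_dvd hU hS
  have h := Subgroup.index_mul_card C
  rw [ChevOrder.card_G2 rfl hD, hc] at h
  refine ⟨c, ?_⟩
  have hpos : 0 < Fintype.card F ^ 6 * (Fintype.card F ^ 2 - 1) := by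
    have h1 := Fintype.one_lt_card (α := F)
    have h2 : 2 ≤ Fintype.card F ^ 2 := by nlinarith
    exact Nat.mul_pos (pow_pos Fintype.card_pos _) (by omega)
  refine Nat.eq_of_mul_eq_mul_left hpos ?_
  rw [← h]
  ring

/-- The arithmetic of the class size. -/
theorem arith_g2 {q r : ℕ} (hq : 9 ≤ q) (hr : r ≤ q + 1) :
    ¬ q ^ 4 + (q ^ 2 - q - 1) + r ∣ (q ^ 6 - 1) * (q ^ 2 - q - 1 + r) := by
  intro h
  have hq2 : q + 1 ≤ q ^ 2 := by nlinarith
  have hq6 : 1 ≤ q ^ 6 := Nat.one_le_pow _ _ (by omega)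
  have e : q ^ 2 - q - 1 = q ^ 2 - (q + 1) := Nat.sub_sub _ _ _
  rw [e] at h
  have hZ : ((q ^ 4 + (q ^ 2 - (q + 1)) + r : ℕ) : ℤ) ∣ (((q ^ 6 - 1) * (q ^ 2 - (q + 1) + r) : ℕ) : ℤ) :=
    Int.natCast_dvd_natCast.2 h
  push_cast [hq2, hq6] at hZ
  obtain ⟨Q, hQ⟩ : ∃ Q : ℤ, Q = (q : ℤ) ^ 2 := ⟨_, rfl⟩
  obtain ⟨ε, hε⟩ : ∃ ε : ℤ, ε = (q : ℤ) + 1 - r := ⟨_, rfl⟩
  obtain ⟨K, hK⟩ : ∃ K : ℤ, K = Q ^ 2 + Q - ε := ⟨_, rfl⟩
  have hε0 : 0 ≤ ε := by rw [hε]; omega
  have hε1 : ε ≤ (q : ℤ) + 1 := by rw [hε]; omega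
  have hq' : (9 : ℤ) ≤ q := by exact_mod_cast hq
  have h1 : K ∣ (Q ^ 3 - 1) * (Q - ε) := by
    convert hZ using 1 <;> rw [hQ, hε] at * <;> first | (rw [hK]; ring) | ring
  have h2 : K ∣ (ε + 1) * ((2 + ε) * Q - 2 * ε) := by
    have e : (ε + 1) * ((2 + ε) * Q - 2 * ε) =
        ((Q - 1) * (Q - ε) + (1 + ε) * 1) * K - (Q ^ 3 - 1) * (Q - ε) := by
      rw [hK]; ring
    rw [e]
    exact dvd_sub (dvd_mul_left _ _) h1
  have hQ1 : 9 * (q : ℤ) ≤ Q := by rw [hQ]; nlinarith
  have hN0 : 0 < (ε + 1) * ((2 + ε) * Q - 2 * ε) := mul_pos (by linarith) (by nlinarith)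
  have hN2 : (ε + 1) * ((2 + ε) * Q - 2 * ε) < 2 * K := by
    have h8 : (ε + 1) * (ε + 2) + 2 ≤ 2 * Q := by rw [hQ]; nlinarith
    rw [hK]
    nlinarith [mul_le_mul_of_nonneg_right h8 (show (0 : ℤ) ≤ Q by linarith)]
  obtain ⟨s, hs⟩ := h2
  have hs0 : 0 < s := by nlinarith
  have hs2 : s < 2 := by nlinarith
  obtain rfl : s = 1 := by omega
  rw [mul_one, hK] at hs
  -- `Q ^ 2 + Q (1 - (ε + 1)(ε + 2)) + ε (2 ε + 1) = 0`
  obtain ⟨j, hj⟩ : ∃ j : ℤ, ε * (2 * ε + 1) = Q * j := ⟨(ε + 1) * (ε + 2) - 1 - Q, by linear_combination -hs⟩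
  have hQpos : 0 < Q := by linarith
  have hj0 : 0 ≤ j := by nlinarith
  have hj3 : j < 3 := by rw [hQ] at hj; nlinarith
  have hQe : Q = (ε + 1) * (ε + 2) - 1 - j := mul_left_cancel₀ hQpos.ne' (by linear_combination -hs - hj)
  interval_cases j
  · rcases mul_eq_zero.1 (hj.trans (mul_zero Q)) with h | h
    · rw [h] at hQe; linarith
    · omega
  · have : ε * (ε - 2) = 0 := by linear_combination hj + hQe
    rcases mul_eq_zero.1 this with h | h
    · rw [h] at hQe; linarith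
    · rw [show ε = 2 by linarith] at hQe; linarith
  · have : 5 * ε = 2 := by linear_combination -hj - 2 * hQe
    omega

variable {V : Type*} [AddCommGroup V] [Module ℂ V] [FiniteDimensional ℂ V] {ρ : Representation ℂ (GG F) V}

theorem bound_three (hn : Nice ρ) (hirr : ρ.IsIrreducible) (h3 : (3 : F) = 0) (hq : 9 ≤ Fintype.card F) :
    Fintype.card F ^ 4 + Fintype.card F ^ 2 + 1 ≤ finrank ℂ V := by
  classical
  rcases three_cases h3 hn hq with h | hT
  · exact h
  exfalso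
  obtain ⟨r, hr, hf0, hD⟩ := tight_dims h3 hT hq
  have hJ : ∀ c : F, finrank ℂ ↥(Ev ρ (X 11) c) = d ρ [(11, c)] := fun c => by
    show _ = finrank ℂ ↥(Ev ρ (X 11) c ⊓ ⊤)
    rw [inf_top_eq]
  have hchar := trace_one_eq (ρ := ρ) (X_add (F := F) (r := 11) (by norm_num)) (D := Fintype.card F ^ 3)
    fun c hc => by rw [hJ, d11_const hc one_ne_zero, hD]
  rw [hJ, hf0] at hchar
  have hdim : finrank ℂ V = Fintype.card F ^ 4 + (Fintype.card F ^ 2 - Fintype.card F - 1) + r := by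
    rw [dim_top (ρ := ρ), hf0, hD]
    obtain ⟨n, hn⟩ : ∃ n, Fintype.card F = n + 2 := ⟨Fintype.card F - 2, by omega⟩
    rw [hn, show n + 2 - 1 = n + 1 from by omega,
      show (n + 2) ^ 2 - 1 = (n + 1) * (n + 3) from Nat.sub_eq_of_eq_add (by ring),
      show (n + 2) ^ 2 - (n + 2) = (n + 1) * (n + 2) from Nat.sub_eq_of_eq_add (by ring),
      show (n + 1) * (n + 2) - 1 = n * n + 3 * n + 1 from Nat.sub_eq_of_eq_add (by ring)]
    ring
  have hint := Cfsg.Agent.Char.isIntegral_classSize_mul_div ρ (X 11 (1 : F))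
  rw [hchar, hdim] at hint
  have hval : (((Fintype.card F ^ 2 - 1) * (Fintype.card F + 1) + r : ℕ) : ℂ) - ((Fintype.card F ^ 3 : ℕ) : ℂ) =
      ((Fintype.card F ^ 2 - Fintype.card F - 1 + r : ℕ) : ℂ) := by
    have h2 : Fintype.card F + 1 ≤ Fintype.card F ^ 2 := by nlinarith
    rw [Nat.sub_sub]
    push_cast [h2, Nat.one_le_pow 2 _ (Fintype.card_pos (α := F))]
    ring
  rw [hval, ← Nat.cast_mul] at hint
  have hdvd := Cfsg.Agent.Char.nat_dvd_of_isIntegral_div (by positivity) hint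
  exact arith_g2 hq hr (hdvd.trans (Nat.mul_dvd_mul_right long_index_dvd _))

end Cfsg.Agent.G2MinDeg
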