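import Cfsg.Agent.Lib.G2MinDeg.Three

/-!
# Representations of G₂(q), q a power of 3: the multiplicities of small degree

* `line_one`, `plane_count`, `Pfun_eq`, `no_b`, `tight_dims`.
-/

set_option autoImplicit false
set_option linter.unusedSectionVars false

namespace Cfsg.Agent.G2MinDeg

open Module Cfsg.Lie Cfsg.Lie.ChevalleyDatum Cfsg.Agent.Chev Cfsg.Agent.ChevBN Cfsg.Agent.MinRep

variable {F : Type*} [Field F] [Fintype F] {V : Type*} [AddCommGroup V] [Module ℂ V] [FiniteDimensional ℂ V]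
  {ρ : Representation ℂ (GG F) V} (h3 : (3 : F) = 0) (hT : Tight ρ)

theorem refl_seven : Chev.refl chevG2 7 6 = 10 ∧ Chev.refl chevG2 7 10 = 6 ∧ Chev.refl chevG2 7 8 = 9 ∧
    Chev.refl chevG2 7 9 = 8 ∧ Chev.refl chevG2 7 11 = 11 := by decide +kernel

/-- The excess in the plane. -/
noncomputable abbrev excess (ρ : Representation ℂ (GG F) V) : ℕ := d ρ [(6, (0 : F)), (8, 1), (9, 1), (11, 0)]

/-- The multiplicity of a character of the roots `6, 10` in the plane of `9`. -/
noncomputable abbrev Pfun (ρ : Representation ℂ (GG F) V) (f b x : F) : ℕ :=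
  d ρ [(6, b), (10, x), (11, 0), (8, 0), (9, f)]

theorem split_plane6 (e f : F) : Mplane ρ 0 e f = ∑ b : F, Nplane ρ b 0 e f :=
  split_J (ρ := ρ) (r := 6) (by norm_num) [(8, e), (9, f), (11, (0 : F))] (stable_nil _ (by simp [nilP]))

include h3 hT

/-- For `b` and `e` nonzero each character has multiplicity one. -/
theorem line_one {b e : F} (hb : b ≠ 0) (he : e ≠ 0) (f : F) : Nplane ρ b 0 e f = 1 := by
  classical
  have hc : ∀ c : F, c ≠ 0 → d ρ [(8, e), (6, b), (11, c)] = Fintype.card F := fun c hc => by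
    rw [d, split_J (ρ := ρ) (r := 9) (by norm_num) [(8, e), (6, b), (11, c)] (fun t v hv => by
      simp only [mem_J_cons, mem_J_nil, and_true] at hv ⊢
      exact ⟨move3_nil h3 (by simp) hv.1, move_nil (by simp [nilP]) hv.2.1, move_nil (by simp [nilP]) hv.2.2⟩)]
    rw [Finset.sum_congr rfl (g := fun _ => 1) fun f' _ => by
      rw [← hT.N1 b c e f' hc fun h => he h.1]
      exact d_congr fun v => by simp only [mem_J_cons, mem_J_nil, and_true]; tauto]
    simp
  have h0 : d ρ [(8, e), (6, b), (11, (0 : F))] = Fintype.card F := by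
    rw [← hc 1 one_ne_zero]
    exact shift_const (ρ := ρ) (fun c : F => J ρ [(8, e), (6, b), (11, c)]) (X 1) hb (fun t c v hv => by
      simp only [mem_J_cons, mem_J_nil, and_true] at hv ⊢
      exact ⟨move_nil (by simp [nilP]) hv.1, move_nil (by simp [nilP]) hv.2.1, move_1_11 hv.2.2 hv.2.1⟩) 0 1
  rw [d, split_J (ρ := ρ) (r := 9) (by norm_num) [(8, e), (6, b), (11, (0 : F))] (fun t v hv => by
    simp only [mem_J_cons, mem_J_nil, and_true] at hv ⊢
    exact ⟨move3_nil h3 (by simp) hv.1, move_nil (by simp [nilP]) hv.2.1, move_nil (by simp [nilP]) hv.2.2⟩)] at h0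
  have hf : ∀ f' : F, finrank ℂ ↥(J ρ [(9, f'), (8, e), (6, b), (11, (0 : F))]) = Nplane ρ b 0 e f := fun f' => by
    rw [shift_const (ρ := ρ) (fun f : F => J ρ [(9, f), (8, e), (6, b), (11, (0 : F))]) (X 4)
      (mul_ne_zero (two_ne_zero_of_three h3) he) (fun t f v hv => by
        simp only [mem_J_cons, mem_J_nil, and_true] at hv ⊢
        exact ⟨move_4_9 h3 hv.1 hv.2.1, move3_nil h3 (by simp) hv.2.1, move_nil (by simp [nilP]) hv.2.2.1,
          move_nil (by simp [nilP]) hv.2.2.2⟩) f' f]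
    exact d_congr fun v => by simp only [mem_J_cons, mem_J_nil, and_true]; tauto
  rw [Finset.sum_congr rfl fun f' _ => hf f', Finset.sum_const, Finset.card_univ, smul_eq_mul] at h0
  exact (Nat.mul_eq_left Fintype.card_ne_zero).1 h0

theorem M0_eq : Mplane ρ 0 1 1 = excess ρ + (Fintype.card F - 1) := by
  classical
  rw [split_plane6, sum_zero_add (fun b : F => Nplane ρ b 0 1 1) fun b hb => line_one h3 hT hb one_ne_zero 1,
    mul_one]

theorem excess_const {e : F} (he : e ≠ 0) (f : F) : Nplane ρ 0 0 e f = excess ρ := by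
  classical
  have h1 := Mplane_eta (ρ := ρ) h3 0 (e := e) (f := f) fun h => he h.1
  rw [M0_eq h3 hT, split_plane6, sum_zero_add (fun b : F => Nplane ρ b 0 e f)
    fun b hb => line_one h3 hT hb he f, mul_one] at h1
  omega

theorem budget : d ρ [(11, (0 : F))] + (Fintype.card F - 1) *
    (Fintype.card F * ((Fintype.card F ^ 2 - 1) + Nplane ρ (0 : F) 1 0 0)) ≤
      Fintype.card F ^ 4 + Fintype.card F ^ 2 := by
  have := hT.small
  rw [dim_top (ρ := ρ), d11_eq h3 one_ne_zero, hT.N1 0 1 1 1 one_ne_zero (fun h => one_ne_zero h.1), mul_one] at this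
  exact this

theorem small_numbers (hq : 9 ≤ Fintype.card F) : excess ρ ≤ 3 ∧ Nplane ρ (0 : F) 1 0 0 ≤ 3 := by
  have hb := budget h3 hT
  rw [d11_plane h3, M0_eq h3 hT] at hb
  set i := excess ρ
  set k0 := Nplane ρ (0 : F) 1 0 0
  set m0 := Mplane ρ 0 0 0
  obtain ⟨n, hn⟩ : ∃ n, Fintype.card F = n + 9 := ⟨Fintype.card F - 9, by omega⟩
  rw [hn, show (n + 9) ^ 2 - 1 = (n + 8) * (n + 10) from Nat.sub_eq_of_eq_add (by ring),
    show n + 9 - 1 = n + 8 from by omega] at hb
  constructor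
  · by_contra hlt
    nlinarith [Nat.mul_le_mul_left ((n + 8) * (n + 10)) (show 4 ≤ i by omega),
      Nat.zero_le ((n + 8) * (n + 9) * k0)]
  · by_contra hlt
    nlinarith [Nat.mul_le_mul_left ((n + 8) * (n + 9)) (show 4 ≤ k0 by omega),
      Nat.zero_le ((n + 8) * (n + 10) * i)]

/-- The rows of `Pfun`. -/
theorem plane_rows {f : F} (hf : f ≠ 0) :
    (∀ x : F, x ≠ 0 → ∑ b, Pfun ρ f b x = 1) ∧ ∑ b, Pfun ρ f b 0 = excess ρ := by
  classical
  obtain ⟨e6, e10, e8, e9, e11⟩ := refl_seven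
  obtain ⟨η6, hη6, g6⟩ := refl_mem' (ρ := ρ) (r := 7) (by norm_num) (by norm_num) e6
  obtain ⟨η10, hη10, g10⟩ := refl_mem' (ρ := ρ) (r := 7) (by norm_num) (by norm_num) e10
  obtain ⟨η8, hη8, g8⟩ := refl_mem' (ρ := ρ) (r := 7) (by norm_num) (by norm_num) e8
  obtain ⟨η9, hη9, g9⟩ := refl_mem' (ρ := ρ) (r := 7) (by norm_num) (by norm_num) e9
  obtain ⟨η11, -, g11⟩ := refl_mem' (ρ := ρ) (r := 7) (by norm_num) (by norm_num) e11
  have row : ∀ x : F, d ρ [(10, x), (11, 0), (8, 0), (9, f)] = ∑ b, Pfun ρ f b x := fun x =>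
    split_J (ρ := ρ) (r := 6) (by norm_num) [(10, x), (11, (0 : F)), (8, 0), (9, f)] fun t v hv => by
      simp only [mem_J_cons, mem_J_nil, and_true] at hv ⊢
      exact ⟨by simpa using move_6_10 (t := t) hv.1 hv.2.1, move_nil (by simp [nilP]) hv.2.1,
        move_nil (by simp [nilP]) hv.2.2.1, move_nil (by simp [nilP]) hv.2.2.2⟩
  have h1 : ∀ x : F, x ≠ 0 → d ρ [(10, x), (11, 0), (8, 0), (9, f)] = 1 := fun x hx => by
    refine le_antisymm ?_ ?_
    · rw [← line_one h3 hT (div_ne_zero hx hη10) (div_ne_zero hf hη9) 0]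
      refine refl_le _ _ (Nr 7 1) fun v hv => ?_
      simp only [mem_J_cons, mem_J_nil, and_true] at hv ⊢
      exact ⟨g10 hv.1, g9 hv.2.2.2, by simpa using g8 hv.2.2.1, by simpa using g11 hv.2.1⟩
    · rw [← line_one h3 hT (mul_ne_zero hx hη6) (mul_ne_zero hf hη8) 0]
      refine refl_le _ _ (Nr 7 1) fun v hv => ?_
      simp only [mem_J_cons, mem_J_nil, and_true] at hv ⊢
      exact ⟨by simpa [hη6] using g6 hv.1, by simpa using g11 hv.2.2.2, by simpa using g9 hv.2.2.1,
        by simpa [hη8] using g8 hv.2.1⟩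
  refine ⟨fun x hx => (row x).symm.trans (h1 x hx), ?_⟩
  have htot : Mplane ρ 0 0 f = ∑ x, d ρ [(10, x), (11, 0), (8, 0), (9, f)] := by
    rw [show Mplane ρ 0 0 f = d ρ [(11, (0 : F)), (8, 0), (9, f)] from
      d_congr fun v => by simp only [mem_J_cons, mem_J_nil, and_true]; tauto]
    exact split_J (ρ := ρ) (r := 10) (by norm_num) [(11, (0 : F)), (8, 0), (9, f)]
      (stable_nil _ (by simp [nilP]))
  rw [sum_zero_add (fun x : F => d ρ [(10, x), (11, 0), (8, 0), (9, f)]) h1,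
    Mplane_eta h3 0 (fun h => hf h.2), M0_eq h3 hT, mul_one, row] at htot
  omega

omit h3 hT in
theorem Pfun_scale {f b x s : F} (hs : s ≠ 0) : Pfun ρ f b x ≤ Pfun ρ f (b / s ^ 2) (x * s) := by
  refine refl_le _ _ (Tor 6 s) fun v hv => ?_
  simp only [mem_J_cons, mem_J_nil, and_true] at hv ⊢
  obtain ⟨-, p10, p6, p11, p8, p9, -⟩ := pairing_vals
  refine ⟨?_, ?_, ?_, ?_, ?_⟩
  · simpa [zpow_ofNat] using tor_mem (by norm_num) p6 hs hv.1
  · simpa using tor_mem (by norm_num) p10 hs hv.2.1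
  · simpa using tor_mem (by norm_num) p11 hs hv.2.2.1
  · simpa using tor_mem (by norm_num) p8 hs hv.2.2.2.1
  · simpa using tor_mem (by norm_num) p9 hs hv.2.2.2.2

/-- The shape of `Pfun`. -/
theorem Pfun_shape [DecidableEq F] (hq : 9 ≤ Fintype.card F) {f : F} (hf : f ≠ 0) : ∃ κ : F, ∀ b x,
    Pfun ρ f b x = if x = 0 then (if b = 0 then excess ρ else 0) else (if b = κ / x ^ 2 then 1 else 0) := by
  obtain ⟨hr1, hr0⟩ := plane_rows h3 hT hf
  obtain ⟨κ, -, hκ⟩ := Finset.exists_ne_zero_of_sum_ne_zero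
    (s := Finset.univ) (f := fun b => Pfun ρ f b (1 : F)) (by rw [hr1 1 one_ne_zero]; exact one_ne_zero)
  refine ⟨κ, fun b x => ?_⟩
  rcases eq_or_ne x 0 with rfl | hx
  · rw [if_pos rfl]
    have hz : ∀ b : F, b ≠ 0 → Pfun ρ f b 0 = 0 := by
      intro b hb
      by_contra hne
      have hall : ∀ s : F, s ≠ 0 → 1 ≤ Pfun ρ f (b / s ^ 2) 0 := fun s hs =>
        le_trans (Nat.one_le_iff_ne_zero.2 hne) (by simpa using Pfun_scale (f := f) (b := b) (x := 0) hs)
      set S : Finset F := (Finset.univ.erase 0).image fun s => b / s ^ 2 with hS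
      have hcard : (Finset.univ.erase (0 : F)).card ≤ 2 * S.card := by
        refine Finset.card_le_mul_card_image _ 2 fun y hy => ?_
        obtain ⟨s₀, hs₀, rfl⟩ := Finset.mem_image.1 hy
        refine (Finset.card_le_card (t := {s₀, -s₀}) fun s hs => ?_).trans Finset.card_le_two
        obtain ⟨hs1, hs2⟩ := Finset.mem_filter.1 hs
        have h1 : s ≠ 0 := Finset.ne_of_mem_erase hs1
        have h2 : s₀ ≠ 0 := Finset.ne_of_mem_erase hs₀
        have h4 : s ^ 2 = s₀ ^ 2 := by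
          field_simp at hs2
          exact hs2.symm
        rcases sq_eq_sq_iff_eq_or_eq_neg.1 h4 with h | h <;> simp [h]
      have hsum : S.card ≤ excess ρ := by
        rw [← hr0, Finset.card_eq_sum_ones]
        refine (Finset.sum_le_sum fun y hy => ?_).trans
          (Finset.sum_le_sum_of_subset (f := fun b => Pfun ρ f b 0) (Finset.subset_univ S))
        obtain ⟨s, hs, rfl⟩ := Finset.mem_image.1 hy
        exact hall s (Finset.ne_of_mem_erase hs)
      rw [Finset.card_erase_of_mem (Finset.mem_univ _), Finset.card_univ] at hcard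
      have := (small_numbers h3 hT hq).1
      omega
    split_ifs with hb
    · subst hb
      rw [← hr0, Finset.sum_eq_single (0 : F) (fun b _ hb => hz b hb) (fun h => absurd (Finset.mem_univ _) h)]
    · exact hz b hb
  · rw [if_neg hx]
    have h1 : 1 ≤ Pfun ρ f (κ / x ^ 2) x := by
      have := Pfun_scale (ρ := ρ) (f := f) (b := κ) (x := 1) hx
      rw [one_mul] at this
      omega
    have h2 := hr1 x hx
    rw [← Finset.add_sum_erase _ _ (Finset.mem_univ (κ / x ^ 2))] at h2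
    split_ifs with hb
    · subst hb; omega
    · have := Finset.single_le_sum (f := fun b => Pfun ρ f b x) (fun _ _ => Nat.zero_le _)
        (Finset.mem_erase.2 ⟨hb, Finset.mem_univ b⟩)
      omega

/-- Translating by `X 7 1`. -/
theorem translate_row [DecidableEq F] {f δ : F} (hf : f ≠ 0) (hδ : δ ≠ 0) :
    ∑ x, Pfun ρ f (δ - f + x) x = 1 := by
  have h2 := two_ne_zero_of_three h3
  have he : ∀ x : F, d ρ [(10, x), (6, δ), (11, 0), (8, 2 * f), (9, f)] = Pfun ρ f (δ - f + x) x := fun x => by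
    refine le_antisymm (refl_le _ _ (X 7 (-1 : F)) fun v hv => ?_) (refl_le _ _ (X 7 (1 : F)) fun v hv => ?_)
    · simp only [mem_J_cons, mem_J_nil, and_true] at hv ⊢
      obtain ⟨v10, v6, v11, v8, v9⟩ := hv
      refine ⟨?_, move_nil (by simp [nilP]) v10, move_nil (by simp [nilP]) v11, ?_, move3_nil h3 (by simp) v9⟩
      · have := move_7_6 (t := (-1 : F)) v6 v10 v8 v9 v11
        rwa [show δ + 2 * f * -1 + f * (-1) ^ 2 - x * (-1) ^ 3 = δ - f + x by ring] at this
      · have := move_7_8 h3 (t := (-1 : F)) v8 v9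
        rwa [show 2 * f + 2 * f * -1 = 0 by ring] at this
    · simp only [mem_J_cons, mem_J_nil, and_true] at hv ⊢
      obtain ⟨v6, v10, v11, v8, v9⟩ := hv
      refine ⟨move_nil (by simp [nilP]) v10, ?_, move_nil (by simp [nilP]) v11, ?_, move3_nil h3 (by simp) v9⟩
      · have := move_7_6 (t := (1 : F)) v6 v10 v8 v9 v11
        rwa [show δ - f + x + 0 * 1 + f * 1 ^ 2 - x * 1 ^ 3 = δ by ring] at this
      · have := move_7_8 h3 (t := (1 : F)) v8 v9
        rwa [show 0 + 2 * f * 1 = 2 * f by ring] at this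
  rw [← Finset.sum_congr rfl fun x _ => he x]
  refine Eq.trans ?_ (line_one h3 hT hδ (mul_ne_zero h2 hf) f)
  rw [show Nplane ρ δ 0 (2 * f) f = d ρ [(6, δ), (11, (0 : F)), (8, 2 * f), (9, f)] from
    d_congr fun v => by simp only [mem_J_cons, mem_J_nil, and_true]; tauto]
  refine (split_J (ρ := ρ) (r := 10) (by norm_num) _ fun t v hv => ?_).symm
  simp only [mem_J_cons, mem_J_nil, and_true] at hv ⊢
  exact ⟨by simpa using move_10_6 (t := t) hv.1 hv.2.1, move_nil (by simp [nilP]) hv.2.1,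
    move_nil (by simp [nilP]) hv.2.2.1, move_nil (by simp [nilP]) hv.2.2.2⟩

theorem Pfun_eq [DecidableEq F] (hq : 9 ≤ Fintype.card F) {f : F} (hf : f ≠ 0) :
    excess ρ = 1 ∧ ∀ b x : F, b ≠ 0 → Pfun ρ f b x = 0 := by
  obtain ⟨κ, hP⟩ := Pfun_shape h3 hT hq hf
  let h : F → F := fun x => κ / x ^ 2 + f - x
  let w : F → F → ℕ := fun δ x => if x = 0 then (if δ = f then excess ρ else 0) else (if h x = δ then 1 else 0)
  have hw : ∀ δ : F, δ ≠ 0 → ∑ x, w δ x = 1 := fun δ hδ => by
    rw [← translate_row h3 hT hf hδ]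
    refine Finset.sum_congr rfl fun x _ => ?_
    rw [hP]
    rcases eq_or_ne x 0 with rfl | hx
    · simp [w, sub_eq_zero]
    · simp only [w, h, if_neg hx]
      exact if_congr ⟨fun e => by linear_combination -e, fun e => by linear_combination -e⟩ rfl rfl
  have hsplit : ∀ δ : F, ∑ x, w δ x = (if δ = f then excess ρ else 0) +
      ((Finset.univ.erase 0).filter fun x => h x = δ).card := fun δ => by
    rw [← Finset.add_sum_erase _ _ (Finset.mem_univ (0 : F)), Finset.card_filter,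
      show w δ 0 = if δ = f then excess ρ else 0 from if_pos rfl]
    congr 1
    exact Finset.sum_congr rfl fun x hx => if_neg (Finset.ne_of_mem_erase hx)
  rcases eq_or_ne κ 0 with rfl | hκ
  · have hi : excess ρ = 1 := by
      have := hw f hf
      rw [hsplit, if_pos rfl, Finset.filter_eq_empty_iff.2 fun x hx e => Finset.ne_of_mem_erase hx
        (by simp only [h, zero_div, zero_add] at e; linear_combination -e)] at this
      simpa using this
    exact ⟨hi, fun b x hb => by rw [hP]; simp [hb]⟩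
  · exfalso
    obtain ⟨x₀, hx₀⟩ := cube_surj h3 κ
    have hx0 : x₀ ≠ 0 := fun e => hκ (by rw [← hx₀, e]; ring)
    have hhx : h x₀ = f := by
      simp only [h, ← hx₀]
      field_simp
      ring
    have hi : excess ρ = 0 := by
      have := hw f hf
      rw [hsplit, if_pos rfl] at this
      have hc : 0 < ((Finset.univ.erase 0).filter fun x => h x = f).card :=
        Finset.card_pos.2 ⟨x₀, Finset.mem_filter.2 ⟨Finset.mem_erase.2 ⟨hx0, Finset.mem_univ _⟩, hhx⟩⟩
      omega
    have hfib : ∀ δ : F, δ ≠ 0 → ((Finset.univ.erase 0).filter fun x => h x = δ).card = 1 := fun δ hδ => by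
      have := hw δ hδ
      rw [hsplit, hi] at this
      simpa using this
    have hsum : ∑ x ∈ Finset.univ.erase (0 : F), h x = 0 := by
      rw [← Finset.sum_fiberwise (Finset.univ.erase (0 : F)) h h]
      refine Eq.trans (Finset.sum_congr rfl fun δ _ => ?_) (FiniteField.sum_pow_lt_card_sub_one F 1 (by omega))
      rw [pow_one, Finset.sum_congr rfl fun x hx => (Finset.mem_filter.1 hx).2, Finset.sum_const]
      rcases eq_or_ne δ 0 with rfl | hδ
      · simp
      · rw [hfib δ hδ, one_smul]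
    have s2 : ∑ x : F, κ / x ^ 2 = 0 := by
      rw [show (fun x : F => κ / x ^ 2) = fun x => κ * x⁻¹ ^ 2 from funext fun x => by rw [inv_pow, div_eq_mul_inv],
        ← Finset.mul_sum, show ∑ x : F, x⁻¹ ^ 2 = ∑ x : F, x ^ 2 from
          Fintype.sum_equiv (Equiv.inv F) _ _ fun x => rfl,
        FiniteField.sum_pow_lt_card_sub_one F 2 (by omega), mul_zero]
    have s1 : ∑ x : F, x = 0 := by simpa using FiniteField.sum_pow_lt_card_sub_one F 1 (by omega)
    have htot : ∑ x : F, h x = 0 := by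
      simp only [h, Finset.sum_sub_distrib, Finset.sum_add_distrib, s1, s2]
      simp
    rw [← Finset.add_sum_erase _ _ (Finset.mem_univ (0 : F)), hsum, add_zero] at htot
    exact hf (by simpa [h] using htot)

theorem no_b (hq : 9 ≤ Fintype.card F) {b f : F} (hb : b ≠ 0) (hf : f ≠ 0) : Nplane ρ b 0 0 f = 0 := by
  classical
  rw [show Nplane ρ b 0 0 f = d ρ [(6, b), (11, (0 : F)), (8, 0), (9, f)] from
    d_congr fun v => by simp only [mem_J_cons, mem_J_nil, and_true]; tauto]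
  rw [d, split_J (ρ := ρ) (r := 10) (by norm_num) _ fun t v hv => by
    simp only [mem_J_cons, mem_J_nil, and_true] at hv ⊢
    exact ⟨by simpa using move_10_6 (t := t) hv.1 hv.2.1, move_nil (by simp [nilP]) hv.2.1,
      move_nil (by simp [nilP]) hv.2.2.1, move_nil (by simp [nilP]) hv.2.2.2⟩]
  refine Finset.sum_eq_zero fun x _ => ?_
  rw [← (Pfun_eq h3 hT hq hf).2 b x hb]
  exact d_congr fun v => by simp only [mem_J_cons, mem_J_nil, and_true]; tauto

/-- `G = q - 1 + k₀`. -/
theorem origin_eq (hq : 9 ≤ Fintype.card F) {b : F} (hb : b ≠ 0) :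
    Nplane ρ b 0 0 0 + 1 = Fintype.card F + Nplane ρ (0 : F) 1 0 0 := by
  classical
  obtain ⟨r11, r6⟩ : Chev.refl chevG2 10 11 = 6 ∧ Chev.refl chevG2 10 6 = 11 := by decide +kernel
  obtain ⟨η11, hη11, g11⟩ := refl_mem' (ρ := ρ) (r := 10) (by norm_num) (by norm_num) r11
  obtain ⟨η6, hη6, g6⟩ := refl_mem' (ρ := ρ) (r := 10) (by norm_num) (by norm_num) r6
  have hD : d ρ [(6, b)] = d ρ [(11, (1 : F))] := by
    refine le_antisymm ?_ ?_
    · rw [← d11_const (div_ne_zero hb hη6) one_ne_zero]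
      refine refl_le _ _ (Nr 10 1) fun v hv => ?_
      simp only [mem_J_cons, mem_J_nil, and_true] at hv ⊢
      exact g6 hv
    · rw [← d11_const (mul_ne_zero hb hη11) one_ne_zero]
      refine refl_le _ _ (Nr 10 1) fun v hv => ?_
      simp only [mem_J_cons, mem_J_nil, and_true] at hv ⊢
      simpa [hη11] using g11 hv
  have hc : ∀ c : F, d ρ [(11, c), (6, b)] = ∑ f, ∑ e, Nplane ρ b c e f := fun c => by
    rw [d, split_J (ρ := ρ) (r := 9) (by norm_num) [(11, c), (6, b)] (stable_nil _ (by simp [nilP]))]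
    refine Finset.sum_congr rfl fun f _ => ?_
    rw [split_J (ρ := ρ) (r := 8) (by norm_num) [(9, f), (11, c), (6, b)] fun t v hv => by
      simp only [mem_J_cons, mem_J_nil, and_true] at hv ⊢
      exact ⟨move3_nil h3 (by simp) hv.1, move_nil (by simp [nilP]) hv.2.1, move_nil (by simp [nilP]) hv.2.2⟩]
    refine Finset.sum_congr rfl fun e _ => ?_
    exact d_congr fun v => by simp only [mem_J_cons, mem_J_nil, and_true]; tauto
  have hne : ∀ c : F, c ≠ 0 → d ρ [(11, c), (6, b)] =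
      Nplane ρ (0 : F) 1 0 0 + (Fintype.card F ^ 2 - 1) := fun c hc' => by
    rw [hc, sum_plane (Nplane ρ b c) fun e f h => hT.N1 b c e f hc' h, N_zero hc', mul_one]
  have h0 : d ρ [(11, (0 : F)), (6, b)] = Nplane ρ b 0 0 0 + Fintype.card F * (Fintype.card F - 1) := by
    rw [hc, Finset.sum_comm, sum_zero_add (fun e => ∑ f, Nplane ρ b 0 e f) (D := Fintype.card F)
      (fun e he => by
        rw [Finset.sum_congr rfl fun f _ => line_one h3 hT hb he f]; simp),
      sum_zero_add (fun f => Nplane ρ b 0 0 f) fun f hf => no_b h3 hT hq hb hf]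
    rw [mul_zero, add_zero, mul_comm]
  have hs := split_J (ρ := ρ) (r := 11) (by norm_num) [(6, b)] (stable_nil _ (by simp [nilP]))
  rw [sum_zero_add (fun c : F => d ρ [(11, c), (6, b)]) hne, h0] at hs
  simp only [d] at hD hs
  rw [hs] at hD
  have hD2 := d11_eq (ρ := ρ) h3 (one_ne_zero (α := F))
  rw [hT.N1 0 1 1 1 one_ne_zero (fun h => one_ne_zero h.1), mul_one] at hD2
  simp only [d] at hD2
  rw [hD2] at hD
  obtain ⟨n, hn⟩ : ∃ n, Fintype.card F = n + 1 := ⟨Fintype.card F - 1, by omega⟩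
  rw [hn, Nat.add_sub_cancel, show (n + 1) ^ 2 - 1 = n * (n + 2) from Nat.sub_eq_of_eq_add (by ring)] at hD
  rw [hn]
  set G := Nplane ρ b 0 0 0
  simp only [Nplane, d] at hD ⊢
  nlinarith [hD]

theorem origin_split (hq : 9 ≤ Fintype.card F) {b : F} (hb : b ≠ 0) :
    Nplane ρ b 0 0 0 = Fintype.card F ∧ Nplane ρ (0 : F) 1 0 0 = 1 ∧
      ∀ x : F, d ρ [(10, x), (6, b), (8, 0), (9, 0), (11, 0)] = 1 := by
  classical
  have hshift : ∀ x : F, d ρ [(10, x), (6, b), (8, 0), (9, 0), (11, 0)] =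
      d ρ [(10, (0 : F)), (6, b), (8, 0), (9, 0), (11, 0)] := fun x => by
    choose r hr using cube_surj (F := F) h3
    exact shift_const (ρ := ρ) (fun x : F => J ρ [(10, x), (6, b), (8, 0), (9, 0), (11, 0)])
      (fun s => X 4 (r (-s / b))) one_ne_zero (fun s x v hv => by
        simp only [mem_J_cons, mem_J_nil, and_true] at hv ⊢
        obtain ⟨v10, v6, v8, v9, v11⟩ := hv
        refine ⟨?_, move_nil (by simp [nilP]) v6, move3_nil h3 (by simp) v8, ?_, move_nil (by simp [nilP]) v11⟩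
        · have := move_4_10 (t := r (-s / b)) v10 v9 v8 v6 v11
          rwa [hr, show x - b * (-s / b) = x + 1 * s by field_simp; ring] at this
        · simpa using move_4_9 h3 (t := r (-s / b)) v9 v8) x 0
  have hs : Nplane ρ b 0 0 0 = ∑ x, d ρ [(10, x), (6, b), (8, 0), (9, 0), (11, 0)] :=
    split_J (ρ := ρ) (r := 10) (by norm_num) [(6, b), (8, (0 : F)), (9, 0), (11, 0)] fun t v hv => by
      simp only [mem_J_cons, mem_J_nil, and_true] at hv ⊢
      exact ⟨by simpa using move_10_6 (t := t) hv.1 hv.2.2.2, move_nil (by simp [nilP]) hv.2.1,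
        move_nil (by simp [nilP]) hv.2.2.1, move_nil (by simp [nilP]) hv.2.2.2⟩
  rw [Finset.sum_congr rfl fun x _ => hshift x, Finset.sum_const, Finset.card_univ, smul_eq_mul] at hs
  have h1 := origin_eq h3 hT hq hb
  have h2 := (small_numbers h3 hT hq).2
  set g := d ρ [(10, (0 : F)), (6, b), (8, 0), (9, 0), (11, 0)] with hg
  rw [hs] at h1 ⊢
  have hg1 : g = 1 := by
    rcases Nat.lt_or_ge g 2 with h | h
    · rcases Nat.eq_zero_or_pos g with h' | h'
      · rw [h'] at h1; omega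
      · omega
    · nlinarith [Nat.mul_le_mul_left (Fintype.card F) h]
  refine ⟨by rw [hg1, mul_one], by rw [hg1] at h1; omega, fun x => (hshift x).trans hg1⟩

/-- The dimension and the multiplicities on the long root subgroup. -/
theorem tight_dims (hq : 9 ≤ Fintype.card F) : ∃ r : ℕ, r ≤ Fintype.card F + 1 ∧
    d ρ [(11, (0 : F))] = (Fintype.card F ^ 2 - 1) * (Fintype.card F + 1) + r ∧
    d ρ [(11, (1 : F))] = Fintype.card F ^ 3 := by
  classical
  obtain ⟨e6, e10, e8, e9, e11⟩ := refl_seven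
  obtain ⟨η6, hη6, g6⟩ := refl_mem' (ρ := ρ) (r := 7) (by norm_num) (by norm_num) e6
  obtain ⟨η10, hη10, g10⟩ := refl_mem' (ρ := ρ) (r := 7) (by norm_num) (by norm_num) e10
  obtain ⟨η8, hη8, g8⟩ := refl_mem' (ρ := ρ) (r := 7) (by norm_num) (by norm_num) e8
  obtain ⟨η9, hη9, g9⟩ := refl_mem' (ρ := ρ) (r := 7) (by norm_num) (by norm_num) e9
  obtain ⟨η11, -, g11⟩ := refl_mem' (ρ := ρ) (r := 7) (by norm_num) (by norm_num) e11
  have hx1 : ∀ x : F, x ≠ 0 → d ρ [(10, x), (6, (0 : F)), (8, 0), (9, 0), (11, 0)] = 1 := fun x hx => by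
    refine le_antisymm ?_ ?_
    · rw [← (origin_split h3 hT hq (div_ne_zero hx hη10)).2.2 0]
      refine refl_le _ _ (Nr 7 1) fun v hv => ?_
      simp only [mem_J_cons, mem_J_nil, and_true] at hv ⊢
      exact ⟨by simpa using g6 hv.2.1, g10 hv.1, by simpa using g9 hv.2.2.2.1, by simpa using g8 hv.2.2.1,
        by simpa using g11 hv.2.2.2.2⟩
    · rw [← (origin_split h3 hT hq (mul_ne_zero hx hη6)).2.2 0]
      refine refl_le _ _ (Nr 7 1) fun v hv => ?_
      simp only [mem_J_cons, mem_J_nil, and_true] at hv ⊢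
      exact ⟨by simpa [hη6] using g6 hv.2.1, by simpa using g10 hv.1, by simpa using g9 hv.2.2.2.1,
        by simpa using g8 hv.2.2.1, by simpa using g11 hv.2.2.2.2⟩
  have hM : Mplane ρ (0 : F) 0 0 = (Fintype.card F - 1) * (Fintype.card F + 1) +
      d ρ [(10, (0 : F)), (6, 0), (8, 0), (9, 0), (11, 0)] := by
    rw [split_plane6, sum_zero_add (fun b : F => Nplane ρ b 0 0 0) fun b hb => (origin_split h3 hT hq hb).1]
    have hs : Nplane ρ (0 : F) 0 0 0 = ∑ x, d ρ [(10, x), (6, (0 : F)), (8, 0), (9, 0), (11, 0)] :=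
      split_J (ρ := ρ) (r := 10) (by norm_num) [(6, (0 : F)), (8, 0), (9, 0), (11, 0)] fun t v hv => by
        simp only [mem_J_cons, mem_J_nil, and_true] at hv ⊢
        exact ⟨by simpa using move_10_6 (t := t) hv.1 hv.2.2.2, move_nil (by simp [nilP]) hv.2.1,
          move_nil (by simp [nilP]) hv.2.2.1, move_nil (by simp [nilP]) hv.2.2.2⟩
    rw [hs, sum_zero_add (fun x : F => d ρ [(10, x), (6, (0 : F)), (8, 0), (9, 0), (11, 0)]) hx1]
    ring
  have hf : ∃ f : F, f ≠ 0 := ⟨1, one_ne_zero⟩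
  obtain ⟨f, hf⟩ := hf
  have hi : excess ρ = 1 := (Pfun_eq h3 hT hq hf).1
  have hk0 := (origin_split h3 hT hq (one_ne_zero (α := F))).2.1
  have hf0 : d ρ [(11, (0 : F))] = (Fintype.card F ^ 2 - 1) * (Fintype.card F + 1) +
      d ρ [(10, (0 : F)), (6, 0), (8, 0), (9, 0), (11, 0)] := by
    rw [d11_plane h3, M0_eq h3 hT, hi, hM]
    obtain ⟨n, hn⟩ : ∃ n, Fintype.card F = n + 1 := ⟨Fintype.card F - 1, by omega⟩
    rw [hn, Nat.add_sub_cancel, show (n + 1) ^ 2 - 1 = n * (n + 2) from Nat.sub_eq_of_eq_add (by ring)]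
    ring
  have hD : d ρ [(11, (1 : F))] = Fintype.card F ^ 3 := by
    rw [d11_eq h3 one_ne_zero, hT.N1 0 1 1 1 one_ne_zero (fun h => one_ne_zero h.1), hk0, mul_one,
      Nat.sub_add_cancel (Nat.one_le_pow _ _ Fintype.card_pos)]
    ring
  refine ⟨_, ?_, hf0, hD⟩
  have hb := budget h3 hT
  rw [hf0, hk0] at hb
  set R := d ρ [(10, (0 : F)), (6, 0), (8, 0), (9, 0), (11, 0)]
  obtain ⟨n, hn⟩ : ∃ n, Fintype.card F = n + 1 := ⟨Fintype.card F - 1, by omega⟩
  rw [hn, Nat.add_sub_cancel, show (n + 1) ^ 2 - 1 = n * (n + 2) from Nat.sub_eq_of_eq_add (by ring)] at hb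
  rw [hn]
  nlinarith [hb]

end Cfsg.Agent.G2MinDeg
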